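import Cfsg.Agent.J4Cent.Words

/-! Kernel checks of the identities. -/

set_option autoImplicit false
set_option Elab.async false
set_option maxRecDepth 100000

namespace Cfsg.Agent.J4Cent

theorem asq_ok : ∀ i : Fin 11, aSqB i = true := by decide +kernel

theorem acom_ok : ∀ i j : Fin 11, aComB i j = true := by decide +kernel

theorem aconj_ok : ∀ g : Fin 3, ∀ k : Fin 11, aConjB g k = true := by decide +kernel

theorem az_ok : eqW [L 0] (selW 16 11 czc) = true := by decide +kernel

end Cfsg.Agent.J4Cent
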