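import Cfsg.Agent.J4Rep.Pack

/-!
# Trees of vectors indexed by the binary digits of a number
-/

set_option autoImplicit false

namespace Cfsg.Agent.J4Cent

open Cfsg.Agent.J4Rep

/-- A binary tree of numbers, the lowest digit at the top. -/
inductive FTree where
  | leaf (v : Nat)
  | node (e o : FTree)

namespace FTree

/-- The entry at an index. -/
def get : FTree → Nat → Nat
  | leaf v, _ => v
  | node e o, c => bif c.testBit 0 then o.get (c >>> 1) else e.get (c >>> 1)

/-- The second tree is the image of the first. -/
noncomputable def mapB (a : List Nat) (e : FTree) : FTree → Bool :=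
  FTree.rec (motive := fun _ => FTree → Bool)
    (fun u o => FTree.rec (motive := fun _ => Bool) (fun v => Nat.beq (app a u) v)
      (fun _ _ _ _ => false) o)
    (fun _ _ ihl ihr o => FTree.rec (motive := fun _ => Bool) (fun _ => false)
      (fun l r _ _ => ihl l && ihr r) o) e

theorem mapB_spec (a : List Nat) : ∀ (e o : FTree), mapB a e o = true →
    ∀ c, o.get c = app a (e.get c)
  | leaf u, leaf v, h, c => (Nat.eq_of_beq_eq_true h).symm
  | leaf u, node _ _, h, c => Bool.noConfusion h
  | node _ _, leaf _, h, c => Bool.noConfusion h
  | node l r, node l' r', h, c => by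
    have h' : (mapB a l l' && mapB a r r') = true := h
    rw [Bool.and_eq_true] at h'
    simp only [get]
    cases c.testBit 0
    exacts [mapB_spec a l l' h'.1 _, mapB_spec a r r' h'.2 _]

/-- The products selected by the digits applied to `w`. -/
noncomputable def prodApp : List (List Nat) → Nat → Nat → Nat
  | [], w, _ => w
  | a :: as, w, c => bif c.testBit 0 then app a (prodApp as w (c >>> 1)) else prodApp as w (c >>> 1)

/-- The tree of all products applied to `w`. -/
noncomputable def okT (w : Nat) (as : List (List Nat)) : FTree → Bool :=
  List.rec (motive := fun _ => FTree → Bool)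
    (fun T => FTree.rec (motive := fun _ => Bool) (fun v => Nat.beq v w) (fun _ _ _ _ => false) T)
    (fun a _ ih T => FTree.rec (motive := fun _ => Bool) (fun _ => false)
      (fun e o _ _ => ih e && mapB a e o) T) as

theorem okT_spec (w : Nat) : ∀ (as : List (List Nat)) (T : FTree), okT w as T = true →
    ∀ c, T.get c = prodApp as w c
  | [], leaf v, h, c => Nat.eq_of_beq_eq_true h
  | [], node _ _, h, c => Bool.noConfusion h
  | _ :: _, leaf _, h, c => Bool.noConfusion h
  | a :: as, node e o, h, c => by
    have h' : (okT w as e && mapB a e o) = true := h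
    rw [Bool.and_eq_true] at h'
    simp only [get, prodApp]
    cases c.testBit 0
    · exact okT_spec w as e h'.1 _
    · show o.get _ = app a _
      rw [mapB_spec a e o h'.2, okT_spec w as e h'.1]

/-- A test holds at every index below `2 ^ n`. -/
noncomputable def allT (p : Nat → Nat → Bool) (n : Nat) : FTree → Nat → Nat → Bool :=
  Nat.rec (motive := fun _ => FTree → Nat → Nat → Bool)
    (fun T _ off => FTree.rec (motive := fun _ => Bool) (fun v => p off v) (fun _ _ _ _ => false) T)
    (fun _ ih T k off => FTree.rec (motive := fun _ => Bool) (fun _ => false)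
      (fun e o _ _ => ih e (2 * k) off && ih o (2 * k) (off + k)) T) n

theorem allT_spec (p : Nat → Nat → Bool) : ∀ (n : Nat) (T : FTree) (k off : Nat),
    allT p n T k off = true → ∀ c < 2 ^ n, p (off + k * c) (T.get c) = true
  | 0, leaf v, k, off, h, c, hc => by
    obtain rfl : c = 0 := by simpa using hc
    simpa [get, allT] using h
  | 0, node _ _, k, off, h, c, hc => Bool.noConfusion h
  | n + 1, leaf _, k, off, h, c, hc => Bool.noConfusion h
  | n + 1, node e o, k, off, h, c, hc => by
    have h' : (allT p n e (2 * k) off && allT p n o (2 * k) (off + k)) = true := h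
    rw [Bool.and_eq_true] at h'
    have hd : c / 2 < 2 ^ n := by
      rw [pow_succ] at hc
      omega
    simp only [get, Nat.shiftRight_one]
    rcases Nat.mod_two_eq_zero_or_one c with hm | hm
    · rw [show c.testBit 0 = false by simp [hm]]
      have := allT_spec p n e _ _ h'.1 _ hd
      rwa [show off + k * c = off + 2 * k * (c / 2) by
        conv_lhs => rw [show c = 2 * (c / 2) by omega]
        ring]
    · rw [show c.testBit 0 = true by simp [hm]]
      have := allT_spec p n o _ _ h'.2 _ hd
      rwa [show off + k * c = off + k + 2 * k * (c / 2) by
        conv_lhs => rw [show c = 2 * (c / 2) + 1 by omega]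
        ring]

end FTree

/-- A search tree from vectors to numbers. -/
inductive KTree where
  | nil
  | node (l : KTree) (key val : Nat) (r : KTree)

/-- Search; the default is `2048`. -/
noncomputable def KTree.find (T : KTree) (x : Nat) : Nat :=
  KTree.rec (motive := fun _ => Nat) 2048
    (fun _ k v _ ihl ihr => bif Nat.blt x k then ihl else bif Nat.beq x k then v else ihr) T

end Cfsg.Agent.J4Cent
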