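import Cfsg.Agent.J4Cent.Elems
import Cfsg.Agent.J4Cent.CheckA
import Cfsg.Agent.J4Cent.Finger

/-!
# The conjugates of the involution in the elementary abelian subgroup
-/

set_option autoImplicit false
set_option maxRecDepth 100000
set_option maxHeartbeats 400000

open Subgroup

namespace Cfsg.Agent.J4Cent

open Cfsg.Agent.J4Rep

theorem selW_succ (b n c : Nat) :
    selW b (n + 1) c = (bif c.testBit 0 then [L b] else []) ++ selW (b + 1) n (c >>> 1) := by
  have hf : ∀ i, (fun i => c.testBit i) (i + 1) = (c >>> 1).testBit i := fun i => by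
    rw [Nat.testBit_shiftRight, Nat.add_comm 1 i]
  simp only [selW, List.range_succ_eq_map, List.filter_cons, List.filter_map]
  have h2 : ((fun i => c.testBit i) ∘ Nat.succ) = fun i => (c >>> 1).testBit i := funext hf
  rw [h2]
  have h3 : ((fun i => L (b + i)) ∘ Nat.succ) = fun i => L (b + 1 + i) :=
    funext fun i => congrArg L (by omega)
  cases c.testBit 0 <;> simp [h3]

theorem ev_selW_succ (b n c : Nat) : ev (selW b (n + 1) c) =
    (bif c.testBit 0 then E b else 1) * ev (selW (b + 1) n (c >>> 1)) := by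
  rw [selW_succ, ev_append]
  cases c.testBit 0 <;> rfl

/-- The elements of the elementary abelian subgroup. -/
noncomputable def av (c : Nat) : J := ev (selW 16 11 c)

theorem av_zero : av 0 = 1 := by
  have : selW 16 11 0 = [] := by decide +kernel
  rw [av, this, ev_nil]

theorem ev_selW_comm {b : Nat} {x : J} : ∀ n c : Nat, (∀ i < n, E (b + i) * x = x * E (b + i)) →
    ev (selW b n c) * x = x * ev (selW b n c) := by
  intro n c h
  have : ev (selW b n c) ∈ centralizer ({x} : Set J) :=
    selW_mem _ b n c fun i hi => mem_centralizer_singleton_iff.2 (h i hi)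
  exact mem_centralizer_singleton_iff.1 this

theorem ev_selW_xor : ∀ n b c e : Nat, (∀ i < n, E (b + i) * E (b + i) = 1) →
    (∀ i < n, ∀ j < n, E (b + i) * E (b + j) = E (b + j) * E (b + i)) →
    ev (selW b n (c ^^^ e)) = ev (selW b n c) * ev (selW b n e)
  | 0, b, c, e, _, _ => by simp [selW, ev_nil]
  | n + 1, b, c, e, hs, hc => by
    rw [ev_selW_succ, ev_selW_succ, ev_selW_succ, Nat.shiftRight_xor_distrib,
      ev_selW_xor n (b + 1) _ _ (fun i hi => by rw [Nat.add_assoc, Nat.add_comm 1]; exact hs _ (by omega))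
        (fun i hi j hj => by
          rw [Nat.add_assoc, Nat.add_comm 1, Nat.add_assoc, Nat.add_comm 1]
          exact hc _ (by omega) _ (by omega)), Nat.testBit_xor]
    set u := ev (selW (b + 1) n (c >>> 1))
    set v := ev (selW (b + 1) n (e >>> 1))
    have hu : u * E b = E b * u := ev_selW_comm n _ fun i hi => by
      have := hc (i + 1) (by omega) 0 (by omega)
      rwa [Nat.add_zero, ← Nat.add_assoc, Nat.add_right_comm] at this
    have hb : E b * E b = 1 := by simpa using hs 0 (by omega)
    cases c.testBit 0 <;> cases e.testBit 0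
    · simp
    · simp only [Bool.false_bne, cond_true, cond_false, one_mul]
      rw [← mul_assoc, ← mul_assoc, hu]
    · simp [mul_assoc]
    · simp only [bne_self_eq_false, cond_true, cond_false, one_mul]
      calc u * v = E b * E b * u * v := by rw [hb, one_mul]
        _ = E b * (u * E b) * v := by rw [hu, ← mul_assoc]
        _ = E b * u * (E b * v) := by simp only [mul_assoc]

theorem ev_selW_conj (g : J) (havz : ∀ c e, av (c ^^^ e) = av c * av e) :
    ∀ (n b : Nat) (l : List Nat), l.length = n →
      (∀ i < n, g * E (b + i) * g⁻¹ = av (l.getD i 0)) →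
      ∀ c, g * ev (selW b n c) * g⁻¹ = av (app l c)
  | 0, b, [], _, _, c => by simp [selW, ev_nil, app_nil, av_zero]
  | n + 1, b, c0 :: l, hl, h, c => by
    rw [ev_selW_succ, app_cons, havz,
      ← ev_selW_conj g havz n (b + 1) l (by simpa using hl) (fun i hi => by
        rw [Nat.add_assoc, Nat.add_comm 1]
        exact h (i + 1) (by omega))]
    have h0 : g * E b * g⁻¹ = av c0 := by simpa using h 0 (by omega)
    cases c.testBit 0
    · simp [av_zero]
    · simp [← h0, mul_assoc]

/-- Conjugation by the three generators in coordinates. -/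
def lrow (g : Nat) : List Nat := lmapTab.getD g []

theorem lrow_ok : ∀ g : Fin 3, (lrow g).length = 11 ∧ smallB 11 (lrow g) = true := by decide +kernel

/-- The conjugates of the involution. -/
def KS : Set J := {a | ∃ c, c < 2048 ∧ kMask.testBit c = true ∧ a = av c}

theorem czc_ok : czc < 2048 ∧ kMask.testBit czc = true := by decide +kernel

/-- The subgroup that will have these conjugates as an orbit. -/
noncomputable def HH : Subgroup J := closure {E 27, E 28, E 29}

theorem HH_gen (g : Fin 3) : E (27 + g) ∈ HH := by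
  refine subset_closure ?_
  fin_cases g <;> simp

/-- The kernel check of a walk over the conjugates. -/
noncomputable def walkB (m : Nat) : List (Nat × Nat) → Nat → Bool :=
  List.rec (motive := fun _ => Nat → Bool) (fun r => Nat.beq r m)
    (fun p _ ih r => r.testBit p.1 && Nat.blt p.1 2048 && Nat.blt p.2 2 &&
      ih (Nat.lor r (2 ^ app (lrow p.2) p.1)))

theorem walk_ok : walkB kMask kSteps (2 ^ czc) = true := by decide +kernel

theorem closed_ok : ∀ g : Fin 3,
    (List.range 2048).all (fun c => !kMask.testBit c || kMask.testBit (app (lrow g) c)) = true := by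
  decide +kernel

variable (hinj : Function.Injective rho)

include hinj

theorem av_xor (c e : Nat) : av (c ^^^ e) = av c * av e :=
  ev_selW_xor 11 16 c e
    (fun i hi => by rw [← ev_pair]; exact (ev_eq hinj (asq_ok ⟨i, hi⟩)))
    fun i hi j hj => by rw [← ev_pair, ← ev_pair]; exact ev_eq hinj (acom_ok ⟨i, hi⟩ ⟨j, hj⟩)

theorem conj_av (g : Fin 3) (c : Nat) :
    E (27 + g) * av c * (E (27 + g))⁻¹ = av (app (lrow g) c) :=
  ev_selW_conj _ (av_xor hinj) 11 16 _ (lrow_ok g).1 (fun i hi => by
    rw [← ev_conj]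
    exact ev_eq hinj (aconj_ok g ⟨i, hi⟩)) c

theorem av_cz : av czc = z := by
  rw [av, z, E]
  exact (ev_eq hinj az_ok).symm

omit hinj in
theorem z_mem_KS' : ∀ a : J, a = av czc → a ∈ KS := fun _ h => ⟨czc, czc_ok.1, czc_ok.2, h⟩

theorem z_mem_KS : z ∈ KS := z_mem_KS' z (av_cz hinj).symm

theorem KS_invariant [Finite J] : ∀ h ∈ HH, ∀ a ∈ KS, h * a * h⁻¹ ∈ KS := by
  have hgen : ∀ g : Fin 3, ∀ a ∈ KS, E (27 + g) * a * (E (27 + g))⁻¹ ∈ KS := by
    rintro g _ ⟨c, hc, hm, rfl⟩
    have := List.all_eq_true.1 (closed_ok g) c (List.mem_range.2 hc)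
    rw [hm] at this
    exact ⟨_, app_lt (fun x hx => Nat.le_of_ble_eq_true (List.all_eq_true.1 (lrow_ok g).2 x hx)) c,
      this, conj_av hinj g c⟩
  let T : Submonoid J :=
    { carrier := {h | ∀ a ∈ KS, h * a * h⁻¹ ∈ KS}
      one_mem' := fun a ha => by simpa using ha
      mul_mem' := fun {x y} hx hy a ha => by simpa [mul_assoc] using hx _ (hy a ha) }
  intro h hh
  rw [HH, ← SetLike.mem_coe, ← coe_toSubmonoid, closure_toSubmonoid_of_finite] at hh
  refine Submonoid.closure_le.2 (?_ : _ ⊆ (T : Set J)) hh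
  rintro x (rfl | rfl | rfl)
  exacts [hgen 0, hgen 1, hgen 2]

theorem KS_transitive : ∀ a ∈ KS, ∃ h ∈ HH, h * z * h⁻¹ = a := by
  have key : ∀ (l : List (Nat × Nat)) (r : Nat), walkB kMask l r = true →
      (∀ c, r.testBit c = true → ∃ h ∈ HH, h * z * h⁻¹ = av c) →
      ∀ c, kMask.testBit c = true → ∃ h ∈ HH, h * z * h⁻¹ = av c := by
    intro l
    induction l with
    | nil =>
      intro r hw hr c hc
      exact hr c (by rw [Nat.eq_of_beq_eq_true hw]; exact hc)
    | cons p l ih =>
      intro r hw hr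
      have hw' : (r.testBit p.1 && Nat.blt p.1 2048 && Nat.blt p.2 2 &&
          walkB kMask l (r ||| 2 ^ app (lrow p.2) p.1)) = true := hw
      simp only [Bool.and_eq_true] at hw'
      obtain ⟨⟨⟨hb, -⟩, hg⟩, hrest⟩ := hw'
      refine ih _ hrest fun c hc => ?_
      rw [Nat.testBit_or, Bool.or_eq_true] at hc
      rcases hc with hc | hc
      · exact hr c hc
      · rw [Nat.testBit_two_pow, decide_eq_true_eq] at hc
        subst hc
        obtain ⟨h, hh, he⟩ := hr _ hb
        have hg2 : p.2 < 3 := Nat.lt_of_lt_of_le (Nat.le_of_ble_eq_true hg) (by norm_num)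
        refine ⟨E (27 + p.2) * h, HH.mul_mem (HH_gen ⟨p.2, hg2⟩) hh, ?_⟩
        rw [← conj_av hinj ⟨p.2, hg2⟩, ← he]
        group
  rintro a ⟨c, -, hc, rfl⟩
  refine key kSteps _ walk_ok (fun c' hc' => ?_) c hc
  rw [Nat.testBit_two_pow, decide_eq_true_eq] at hc'
  subst hc'
  exact ⟨1, one_mem _, by rw [av_cz hinj]; simp⟩

end Cfsg.Agent.J4Cent
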