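import Cfsg.Agent.J4Cent.BaseData

/-! Kernel check of the common data. -/

set_option autoImplicit false
set_option Elab.async false
set_option maxRecDepth 100000

namespace Cfsg.Agent.J4Cent

theorem base_ok : base.ok = true := by decide +kernel

end Cfsg.Agent.J4Cent
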