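import Cfsg.Agent.J4Cent.Data

/-! Kernel checks that the listed matrices are those of the words. -/

set_option autoImplicit false
set_option Elab.async false
set_option maxRecDepth 100000

namespace Cfsg.Agent.J4Cent

theorem alph_valid : alph.Valid := by
  show ∀ k : Fin 30, bridgeB (alph.w k) (alph.C k) (alph.D k) = true
  decide +kernel

end Cfsg.Agent.J4Cent
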