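import Cfsg.Agent.J4Cent.Words

/-! Kernel checks of the identities. -/

set_option autoImplicit false
set_option Elab.async false
set_option maxRecDepth 100000

namespace Cfsg.Agent.J4Cent

theorem conj_ok : ∀ l : Fin 16, ∀ k : Fin 13, conjB l k = true := by decide +kernel

theorem blk_ok : ∀ l : Fin 16, ∀ i : Fin 24, blkB l i = true := by decide +kernel

end Cfsg.Agent.J4Cent
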