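import Cfsg.Agent.J4Cent.Words

/-! Kernel checks of the identities. -/

set_option autoImplicit false
set_option Elab.async false
set_option maxRecDepth 100000

namespace Cfsg.Agent.J4Cent

theorem sq_ok : ∀ i : Fin 12, sqB i = true := by decide +kernel

theorem com_ok : ∀ i j : Fin 12, comB i j = true := by decide +kernel

theorem dual_ok : ∀ k j : Fin 12, dualB k j = true := by decide +kernel

theorem cent_ok : ∀ l : Fin 16, centB l = true := by decide +kernel

theorem z_sq_ok : eqW [L 0, L 0] [] = true := by decide +kernel

theorem d_cube_ok : eqW (dW 3) [] = true := by decide +kernel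

theorem dconj_ok : ∀ l : Fin 16, ∀ e : Fin 2, dconjB l e = true := by decide +kernel

end Cfsg.Agent.J4Cent
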