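import Cfsg.Agent.J4Cent.Words
import Cfsg.Agent.Compute.Config

/-! Kernel checks of the straight-line program. -/

set_option autoImplicit false
set_option Elab.async false
set_option maxRecDepth 100000

namespace Cfsg.Agent.J4Cent

open Cfsg.Agent.Compute

/-- The permutation of a word in the letters. -/
noncomputable def codeOf (w : List Nat) : Nat :=
  List.rec (motive := fun _ => Nat) rep24.one (fun l _ ih => rep24.mul (permOf l) ih) w

theorem innerW_lt : innerW.all (fun w => w.all fun l => Nat.blt l 16) = true := by decide +kernel

theorem inner_ok : innerCodes.all (fun c => innerW.any fun w => Nat.beq c (codeOf w)) = true := by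
  decide +kernel

theorem inner_gen : rep24.genB m24aChain.tail.tail innerCodes slpAll = true := by decide +kernel

theorem outer_ok : (Nat.beq (rep24.act (permOf 15) 23) 0 = true) ∧
    (List.range 14).all (fun l => Nat.beq (permOf l) rep24.one) = true := by
  decide +kernel

end Cfsg.Agent.J4Cent
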