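import Mathlib

/-!
# A bound on a centraliser from double cosets

`H` acts transitively by conjugation on the set `K` containing `z`.  The cosets `g H` with
`g⁻¹ * z * g ∈ K` are counted double coset by double coset.
-/

set_option autoImplicit false

open Subgroup

namespace Cfsg.Agent.J4Cent

variable {G : Type*} [Group G] [Finite G]

/-- Some element of the coset moves `a` into `K`. -/
def Rel (H : Subgroup G) (K : Set G) (c : G ⧸ H) (a : G) : Prop :=
  ∃ g : G, (g : G ⧸ H) = c ∧ g⁻¹ * a * g ∈ K

omit [Finite G] in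
theorem rel_mk {H : Subgroup G} {K : Set G} (hK : ∀ h ∈ H, ∀ a ∈ K, h * a * h⁻¹ ∈ K) {g a : G} :
    Rel H K (g : G ⧸ H) a ↔ g⁻¹ * a * g ∈ K := by
  refine ⟨?_, fun h => ⟨g, rfl, h⟩⟩
  rintro ⟨g', hg', hm⟩
  rw [QuotientGroup.eq] at hg'
  have := hK _ (inv_mem hg') _ hm
  simpa [mul_assoc] using this

omit [Finite G] in
theorem rel_smul {H : Subgroup G} {K : Set G} (h g : G) (c : G ⧸ H) :
    Rel H K (h • c) (h * g * h⁻¹) ↔ Rel H K c g := by
  constructor
  · rintro ⟨g', hg', hm⟩
    refine ⟨h⁻¹ * g', ?_, by simpa [mul_assoc] using hm⟩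
    show h⁻¹ • (g' : G ⧸ H) = c
    rw [hg', inv_smul_smul]
  · rintro ⟨g', rfl, hm⟩
    exact ⟨h * g', rfl, by simpa [mul_assoc] using hm⟩

/-- The bound. -/
theorem card_centralizer_le (H : Subgroup G) (K : Set G) (z : G) (hzK : z ∈ K)
    (hK : ∀ h ∈ H, ∀ a ∈ K, h * a * h⁻¹ ∈ K) (htr : ∀ a ∈ K, ∃ h ∈ H, h * z * h⁻¹ = a)
    {n : ℕ} (rep : Fin n → G) (idx P : Fin n → ℕ)
    (hcov : ∀ g : G, ∃ i, ∃ a ∈ H, (g : G ⧸ H) = ((a * rep i : G) : G ⧸ H))
    (hidx : ∀ i, Nat.card {c : G ⧸ H // ∃ a ∈ H, c = ((a * rep i : G) : G ⧸ H)} ≤ idx i)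
    (hP : ∀ i, Nat.card {a : G // a ∈ K ∧ (rep i)⁻¹ * a * rep i ∈ K} ≤ P i) :
    Nat.card (centralizer ({z} : Set G)) * (Nat.card K * Nat.card K) ≤
      (∑ i, idx i * P i) * Nat.card H := by
  classical
  have := Fintype.ofFinite G
  have := Fintype.ofFinite (G ⧸ H)
  let O : Fin n → Finset (G ⧸ H) := fun i =>
    Finset.univ.filter fun c => ∃ a ∈ H, c = ((a * rep i : G) : G ⧸ H)
  let KF : Finset G := Finset.univ.filter (· ∈ K)
  let S : Finset (G ⧸ H) := Finset.univ.filter fun c => Rel H K c z
  have hKF : KF.card = Nat.card K := by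
    rw [Nat.card_eq_card_toFinset]
    congr 1
    ext a
    simp [KF]
  have hO : ∀ i, ∀ h ∈ H, ∀ c ∈ O i, h • c ∈ O i := by
    intro i h hh c hc
    simp only [O, Finset.mem_filter, Finset.mem_univ, true_and] at hc ⊢
    obtain ⟨a, ha, rfl⟩ := hc
    exact ⟨h * a, H.mul_mem hh ha, by rw [mul_assoc]; rfl⟩
  have hpart : ∀ i, Nat.card K * ((O i).filter fun c => Rel H K c z).card ≤ idx i * P i := by
    intro i
    have hconst : ∀ a ∈ KF, ((O i).filter fun c => Rel H K c a).card =
        ((O i).filter fun c => Rel H K c z).card := by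
      intro a ha
      simp only [KF, Finset.mem_filter, Finset.mem_univ, true_and] at ha
      obtain ⟨h, hh, rfl⟩ := htr a ha
      refine Finset.card_bij' (fun c _ => h⁻¹ • c) (fun c _ => h • c) ?_ ?_
        (fun c _ => smul_inv_smul h c) (fun c _ => inv_smul_smul h c)
      · intro c hc
        rw [Finset.mem_filter] at hc ⊢
        refine ⟨hO i _ (inv_mem hh) _ hc.1, (rel_smul h z (h⁻¹ • c)).1 ?_⟩
        rw [smul_inv_smul]
        exact hc.2
      · intro c hc
        rw [Finset.mem_filter] at hc ⊢
        exact ⟨hO i _ hh _ hc.1, (rel_smul h z c).2 hc.2⟩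
    have hbelow : ∀ c ∈ O i, (KF.filter fun a => Rel H K c a).card ≤ P i := by
      intro c hc
      simp only [O, Finset.mem_filter, Finset.mem_univ, true_and] at hc
      obtain ⟨b, hb, rfl⟩ := hc
      refine le_trans (le_of_eq (?_ : _ = Nat.card {a : G // a ∈ K ∧ (rep i)⁻¹ * a * rep i ∈ K})) (hP i)
      rw [Nat.card_eq_fintype_card, Fintype.card_subtype]
      refine Finset.card_bij' (fun a _ => b⁻¹ * a * b) (fun a _ => b * a * b⁻¹) ?_ ?_
        (fun a _ => by group) (fun a _ => by group)
      · intro a ha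
        simp only [KF, Finset.mem_filter, Finset.mem_univ, true_and] at ha ⊢
        refine ⟨by simpa using hK _ (inv_mem hb) _ ha.1, ?_⟩
        have := (rel_mk hK).1 ha.2
        simpa [mul_assoc] using this
      · intro a ha
        simp only [KF, Finset.mem_filter, Finset.mem_univ, true_and] at ha ⊢
        refine ⟨hK _ hb _ ha.1, (rel_mk hK).2 ?_⟩
        simpa [mul_assoc] using ha.2
    have hOcard : (O i).card ≤ idx i := by
      refine le_trans (le_of_eq ?_) (hidx i)
      rw [Nat.card_eq_fintype_card, Fintype.card_subtype]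
    calc Nat.card K * ((O i).filter fun c => Rel H K c z).card
        = ∑ a ∈ KF, ((O i).filter fun c => Rel H K c a).card := by
          rw [Finset.sum_congr rfl hconst, Finset.sum_const, smul_eq_mul, hKF]
      _ = ∑ c ∈ O i, (KF.filter fun a => Rel H K c a).card :=
          (Finset.sum_card_bipartiteAbove_eq_sum_card_bipartiteBelow
            (fun c a => Rel H K c a)).symm
      _ ≤ (O i).card * P i := by
          rw [← smul_eq_mul, ← Finset.sum_const]
          exact Finset.sum_le_sum hbelow
      _ ≤ idx i * P i := Nat.mul_le_mul_right _ hOcard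
  have hS : Nat.card K * S.card ≤ ∑ i, idx i * P i := by
    have hsub : S ⊆ Finset.univ.biUnion fun i => (O i).filter fun c => Rel H K c z := by
      intro c hc
      simp only [S, Finset.mem_filter, Finset.mem_univ, true_and] at hc
      obtain ⟨g, rfl⟩ := QuotientGroup.mk_surjective c
      obtain ⟨i, a, ha, he⟩ := hcov g
      simp only [Finset.mem_biUnion, Finset.mem_filter, Finset.mem_univ, true_and, O]
      exact ⟨i, ⟨a, ha, he⟩, hc⟩
    calc Nat.card K * S.card
        ≤ Nat.card K * ∑ i, ((O i).filter fun c => Rel H K c z).card :=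
          Nat.mul_le_mul_left _ ((Finset.card_le_card hsub).trans Finset.card_biUnion_le)
      _ ≤ ∑ i, idx i * P i := by
          rw [Finset.mul_sum]
          exact Finset.sum_le_sum fun i _ => hpart i
  -- the centraliser
  set C := centralizer ({z} : Set G) with hC
  have hH : Nat.card K * Nat.card (C.subgroupOf H) = Nat.card H := by
    have e : Function.Bijective (Quotient.lift (fun h : H => (⟨(h : G) * z * (h : G)⁻¹,
        hK h h.2 z hzK⟩ : K)) (fun a b hab => by
          have hab' := mem_centralizer_singleton_iff.1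
            (mem_subgroupOf.1 (QuotientGroup.leftRel_apply.1 hab))
          simp only [coe_mul, coe_inv] at hab'
          apply Subtype.ext
          show (a : G) * z * (a : G)⁻¹ = (b : G) * z * (b : G)⁻¹
          calc (a : G) * z * (a : G)⁻¹
              = (a : G) * (z * ((a : G)⁻¹ * b)) * (b : G)⁻¹ := by group
            _ = (a : G) * ((a : G)⁻¹ * b * z) * (b : G)⁻¹ := by rw [hab']
            _ = (b : G) * z * (b : G)⁻¹ := by group) : H ⧸ C.subgroupOf H → K) := by
      constructor
      · intro p q
        induction p using QuotientGroup.induction_on with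
        | _ a =>
          induction q using QuotientGroup.induction_on with
          | _ b =>
            intro hpq
            have hpq' : (a : G) * z * (a : G)⁻¹ = (b : G) * z * (b : G)⁻¹ := congrArg Subtype.val hpq
            refine QuotientGroup.eq.2 (mem_subgroupOf.2 (mem_centralizer_singleton_iff.2 ?_))
            simp only [coe_mul, coe_inv]
            calc (a : G)⁻¹ * b * z = (a : G)⁻¹ * ((b : G) * z * (b : G)⁻¹) * b := by group
              _ = z * ((a : G)⁻¹ * b) := by rw [← hpq']; group
      · rintro ⟨a, ha⟩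
        obtain ⟨h, hh, rfl⟩ := htr a ha
        exact ⟨((⟨h, hh⟩ : H) : H ⧸ C.subgroupOf H), rfl⟩
    rw [← Nat.card_eq_of_bijective _ e]
    have hm := (C.subgroupOf H).card_mul_index
    rw [index_eq_card, mul_comm] at hm
    exact hm
  have hCS : (H.subgroupOf C).index ≤ S.card := by
    rw [index_eq_card, ← Nat.card_eq_finsetCard]
    refine Nat.card_le_card_of_injective (Quotient.lift (fun c : C => (⟨((c : G) : G ⧸ H), ?_⟩ : S))
      (fun a b hab => Subtype.ext (QuotientGroup.eq.2
        (mem_subgroupOf.1 (QuotientGroup.leftRel_apply.1 hab))))) ?_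
    · simp only [S, Finset.mem_filter, Finset.mem_univ, true_and]
      refine (rel_mk hK).2 ?_
      rw [mul_assoc, ← mem_centralizer_singleton_iff.1 c.2, inv_mul_cancel_left]
      exact hzK
    · intro p q
      induction p using QuotientGroup.induction_on with
      | _ a =>
        induction q using QuotientGroup.induction_on with
        | _ b =>
          intro hpq
          exact QuotientGroup.eq.2 (mem_subgroupOf.2 (QuotientGroup.eq.1 (congrArg Subtype.val hpq)))
  have hinter : Nat.card (H.subgroupOf C) = Nat.card (C.subgroupOf H) := by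
    rw [← inf_subgroupOf_right H C, ← inf_subgroupOf_right C H,
      Nat.card_congr (subgroupOfEquivOfLe (inf_le_right : H ⊓ C ≤ C)).toEquiv,
      Nat.card_congr (subgroupOfEquivOfLe (inf_le_right : C ⊓ H ≤ H)).toEquiv, inf_comm]
  calc Nat.card C * (Nat.card K * Nat.card K)
      = (H.subgroupOf C).index * Nat.card (H.subgroupOf C) * (Nat.card K * Nat.card K) := by
        rw [index_mul_card]
    _ ≤ S.card * Nat.card (H.subgroupOf C) * (Nat.card K * Nat.card K) :=
        Nat.mul_le_mul_right _ (Nat.mul_le_mul_right _ hCS)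
    _ = Nat.card K * S.card * (Nat.card K * Nat.card (C.subgroupOf H)) := by rw [hinter]; ring
    _ ≤ (∑ i, idx i * P i) * Nat.card H := by
        rw [hH]
        exact Nat.mul_le_mul_right _ hS

end Cfsg.Agent.J4Cent
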