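import Cfsg.Agent.LargeExtra.Quotient

/-!
# An extraspecial group from twelve generators and their commutators
-/

set_option autoImplicit false
set_option maxHeartbeats 80000

open Subgroup Cfsg
open scoped commutatorElement

namespace Cfsg.Agent.J4Cent

variable {G : Type*} [Group G] [Finite G]

omit [Finite G] in
theorem z_cases {z a : G} (hz2 : z * z = 1) (ha : a ∈ zpowers z) : a = 1 ∨ a = z := by
  obtain ⟨k, rfl⟩ := mem_zpowers_iff.1 ha
  have hev : ∀ j : ℤ, z ^ (2 * j) = 1 := fun j => by
    rw [zpow_mul, zpow_two, hz2, one_zpow]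
  rcases Int.even_or_odd' k with ⟨j, rfl | rfl⟩
  · exact Or.inl (hev j)
  · exact Or.inr (by rw [zpow_add_one, hev, one_mul])

/-- Each further generator at most doubles the order. -/
theorem card_closure_le {z : G} (hz2 : z * z = 1) :
    ∀ l : List G, (∀ a ∈ l, a * z = z * a) → (∀ a ∈ l, a * a ∈ zpowers z) →
      (∀ a ∈ l, ∀ b ∈ l, a * b * a⁻¹ * b⁻¹ ∈ zpowers z) →
      Nat.card (closure (insert z {x | x ∈ l})) ≤ 2 ^ (l.length + 1) := by
  intro l
  induction l with
  | nil =>
    intro _ _ _
    have : (insert z {x : G | x ∈ ([] : List G)}) = {z} := by simp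
    rw [this, ← zpowers_eq_closure, Nat.card_zpowers]
    exact orderOf_le_of_pow_eq_one (n := 2) (by norm_num) (by rw [sq, hz2])
  | cons b l ih =>
    intro hc hs hcom
    set K := closure (insert z {x | x ∈ l}) with hK
    have ihK := ih (fun a ha => hc a (List.mem_cons_of_mem _ ha))
      (fun a ha => hs a (List.mem_cons_of_mem _ ha))
      fun a ha c hc' => hcom a (List.mem_cons_of_mem _ ha) c (List.mem_cons_of_mem _ hc')
    have hzK : zpowers z ≤ K := zpowers_le.2 (subset_closure (Set.mem_insert _ _))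
    have hbK : ∀ k ∈ K, b * k * b⁻¹ ∈ K := by
      intro k hk
      induction hk using closure_induction with
      | mem x hx =>
        rcases hx with rfl | hx
        · rw [hc b List.mem_cons_self, mul_inv_cancel_right]
          exact hzK (mem_zpowers _)
        · have := mul_mem (hzK (hcom b List.mem_cons_self x (List.mem_cons_of_mem _ hx)))
            (show x ∈ K from subset_closure (Set.mem_insert_of_mem _ hx))
          simpa [mul_assoc] using this
      | one => simp
      | mul x y _ _ hx hy => simpa [mul_assoc] using mul_mem hx hy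
      | inv x _ hx => simpa [mul_assoc] using inv_mem hx
    have hbK' : ∀ k ∈ K, b⁻¹ * k * b ∈ K := by
      intro k hk
      have hb2 : b * b ∈ K := hzK (hs b List.mem_cons_self)
      have e : b⁻¹ * k * b = (b * b)⁻¹ * (b * k * b⁻¹) * (b * b) := by group
      rw [e]
      exact mul_mem (mul_mem (inv_mem hb2) (hbK k hk)) hb2
    let S : Subgroup G :=
      { carrier := {x | x ∈ K ∨ x * b⁻¹ ∈ K}
        one_mem' := Or.inl K.one_mem
        mul_mem' := by
          have hb2 : b * b ∈ K := hzK (hs b List.mem_cons_self)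
          rintro x y (hx | hx) (hy | hy)
          · exact Or.inl (mul_mem hx hy)
          · exact Or.inr (by simpa [mul_assoc] using mul_mem hx hy)
          · refine Or.inr ?_
            simpa [mul_assoc] using mul_mem hx (hbK y hy)
          · refine Or.inl ?_
            simpa [mul_assoc] using mul_mem (mul_mem hx (hbK _ hy)) hb2
        inv_mem' := by
          rintro x (hx | hx)
          · exact Or.inl (inv_mem hx)
          · refine Or.inr ?_
            have hb2 : b * b ∈ K := hzK (hs b List.mem_cons_self)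
            have := mul_mem (hbK' _ (inv_mem hx)) (inv_mem hb2)
            simpa [mul_assoc] using this }
    have hle : closure (insert z {x | x ∈ b :: l}) ≤ S := by
      rw [closure_le]
      rintro x (rfl | hx)
      · exact Or.inl (hzK (mem_zpowers _))
      · rcases List.mem_cons.1 hx with rfl | hx
        · exact Or.inr (by simp)
        · exact Or.inl (subset_closure (Set.mem_insert_of_mem _ hx))
    refine le_trans (card_le_of_le hle) ?_
    have hS : Nat.card S ≤ Nat.card (K × Bool) := by
      refine Nat.card_le_card_of_surjective (fun p : K × Bool =>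
        (⟨if p.2 then (p.1 : G) * b else p.1, ?_⟩ : S)) ?_
      · obtain ⟨k, e⟩ := p
        cases e
        · exact Or.inl k.2
        · exact Or.inr (by simp)
      · rintro ⟨x, hx | hx⟩
        · exact ⟨(⟨x, hx⟩, false), rfl⟩
        · exact ⟨(⟨x * b⁻¹, hx⟩, true), Subtype.ext (by simp)⟩
    rw [Nat.card_prod, show Nat.card Bool = 2 by simp] at hS
    rw [List.length_cons, pow_succ]
    exact hS.trans (Nat.mul_le_mul_right 2 ihK)

/-- A criterion for an extraspecial group of order `2 ^ 13`. -/
theorem extraspecial_gens {z : G} (hz : z ≠ 1) (hz2 : z * z = 1) (b c : Fin 12 → G)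
    (hc : ∀ i, b i * z = z * b i) (hs : ∀ i, b i * b i ∈ zpowers z)
    (hcom : ∀ i j, b i * b j * (b i)⁻¹ * (b j)⁻¹ ∈ zpowers z)
    (hcmem : ∀ k, c k ∈ closure (insert z (Set.range b)))
    (hdual : ∀ k j, c k * b j * (c k)⁻¹ * (b j)⁻¹ = if k = j then z else 1) :
    Nat.card (closure (insert z (Set.range b))) = 2 ^ 13 ∧
      IsExtraspecial 2 (closure (insert z (Set.range b))) := by
  classical
  set Q := closure (insert z (Set.range b)) with hQdef
  have hzQ : z ∈ Q := subset_closure (Set.mem_insert _ _)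
  have hbQ : ∀ i, b i ∈ Q := fun i => subset_closure (Set.mem_insert_of_mem _ ⟨i, rfl⟩)
  have hZQ : zpowers z ≤ Q := zpowers_le.2 hzQ
  have hqz : ∀ q ∈ Q, q * z = z * q := by
    intro q hq
    induction hq using closure_induction with
    | mem x hx =>
      rcases hx with rfl | ⟨i, rfl⟩
      exacts [rfl, hc i]
    | one => simp
    | mul x y _ _ hx hy => rw [mul_assoc, hy, ← mul_assoc, hx, mul_assoc]
    | inv x _ hx => exact (Commute.inv_left hx : Commute x⁻¹ z).eq
  have hcentral : ∀ a ∈ zpowers z, ∀ q ∈ Q, q * a = a * q := by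
    intro a ha q hq
    rcases z_cases hz2 ha with rfl | rfl
    exacts [by simp, hqz q hq]
  have hle : Nat.card Q ≤ 2 ^ 13 := by
    have h := card_closure_le hz2 (List.ofFn b)
      (fun a ha => by obtain ⟨i, rfl⟩ := List.mem_ofFn.1 ha; exact hc i)
      (fun a ha => by obtain ⟨i, rfl⟩ := List.mem_ofFn.1 ha; exact hs i)
      (fun a ha a' ha' => by
        obtain ⟨i, rfl⟩ := List.mem_ofFn.1 ha
        obtain ⟨j, rfl⟩ := List.mem_ofFn.1 ha'
        exact hcom i j)
    rw [List.length_ofFn] at h
    have e : {x | x ∈ List.ofFn b} = Set.range b := Set.ext fun x => List.mem_ofFn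
    rwa [e] at h
  -- commutators with the generators lie in the centre
  have h1 : ∀ q ∈ Q, ∀ j, q * b j * q⁻¹ * (b j)⁻¹ ∈ zpowers z := by
    intro q hq j
    induction hq using closure_induction with
    | mem x hx =>
      rcases hx with rfl | ⟨i, rfl⟩
      · rw [← hc j, mul_inv_cancel_right, mul_inv_cancel]
        exact one_mem _
      · exact hcom i j
    | one => simp
    | mul x y hxQ _ hx hy =>
      have e : x * y * b j * (x * y)⁻¹ * (b j)⁻¹ =
          x * (y * b j * y⁻¹ * (b j)⁻¹) * x⁻¹ * (x * b j * x⁻¹ * (b j)⁻¹) := by group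
      rw [e, hcentral _ hy x hxQ, mul_inv_cancel_right]
      exact mul_mem hy hx
    | inv x hxQ hx =>
      have e : x⁻¹ * b j * (x⁻¹)⁻¹ * (b j)⁻¹ = x⁻¹ * (x * b j * x⁻¹ * (b j)⁻¹)⁻¹ * x := by group
      rw [e, mul_assoc, ← hcentral _ (inv_mem hx) x hxQ, inv_mul_cancel_left]
      exact inv_mem hx
  let χ : Q →* (Fin 12 → zpowers z) :=
    { toFun := fun q j => ⟨(q : G) * b j * (q : G)⁻¹ * (b j)⁻¹, h1 q q.2 j⟩
      map_one' := funext fun j => Subtype.ext (by simp)
      map_mul' := fun p q => funext fun j => Subtype.ext (by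
        show (p : G) * q * b j * ((p : G) * q)⁻¹ * (b j)⁻¹ =
          (p * b j * (p : G)⁻¹ * (b j)⁻¹) * (q * b j * (q : G)⁻¹ * (b j)⁻¹)
        have e : (p : G) * q * b j * ((p : G) * q)⁻¹ * (b j)⁻¹ =
            p * (q * b j * (q : G)⁻¹ * (b j)⁻¹) * (p : G)⁻¹ *
              (p * b j * (p : G)⁻¹ * (b j)⁻¹) := by group
        rw [e, hcentral _ (h1 q q.2 j) p p.2, mul_inv_cancel_right,
          hcentral _ (h1 q q.2 j) _ (hZQ (h1 p p.2 j))]) }
  have hsing : ∀ k, χ ⟨c k, hcmem k⟩ = Pi.mulSingle k ⟨z, mem_zpowers z⟩ := by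
    intro k
    funext j
    apply Subtype.ext
    show c k * b j * (c k)⁻¹ * (b j)⁻¹ = _
    rw [hdual k j]
    rcases eq_or_ne k j with rfl | h
    · simp
    · rw [if_neg h, Pi.mulSingle_eq_of_ne (Ne.symm h)]
      rfl
  let : CommGroup (zpowers z) := IsMulCommutative.instCommGroup
  have hsurj : Function.Surjective χ := by
    intro f
    have hmem : ∀ k, Pi.mulSingle k (f k) ∈ χ.range := by
      intro k
      rcases z_cases hz2 (f k).2 with h | h
      · rw [show f k = 1 from Subtype.ext h, Pi.mulSingle_one]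
        exact one_mem _
      · exact ⟨_, (hsing k).trans (by rw [show f k = ⟨z, mem_zpowers z⟩ from Subtype.ext h])⟩
    have : f ∈ χ.range := by
      rw [← Finset.univ_prod_mulSingle f]
      exact Subgroup.prod_mem _ fun k _ => hmem k
    exact this
  have hord : orderOf z = 2 := orderOf_eq_prime (by rw [sq, hz2]) hz
  have hZ2 : Nat.card (zpowers z) = 2 := by rw [Nat.card_zpowers, hord]
  have hrange : Nat.card χ.range = 2 ^ 12 := by
    rw [MonoidHom.range_eq_top.2 hsurj, Subgroup.card_top, Nat.card_pi]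
    simp [hZ2]
  let zq : Q := ⟨z, hzQ⟩
  have hzq : zq ≠ 1 := fun h => hz (congrArg Subtype.val h)
  have hzker : zq ∈ χ.ker := by
    refine funext fun j => Subtype.ext ?_
    show z * b j * z⁻¹ * (b j)⁻¹ = 1
    rw [← hc j, mul_inv_cancel_right, mul_inv_cancel]
  have hker : zpowers zq ≤ χ.ker := zpowers_le.2 hzker
  have hzq2 : Nat.card (zpowers zq) = 2 := by
    rw [Nat.card_zpowers]
    exact orderOf_eq_prime (Subtype.ext (by rw [sq]; exact hz2)) hzq
  have hprod : Nat.card χ.ker * Nat.card χ.range = Nat.card Q := by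
    rw [← Subgroup.index_ker]
    exact χ.ker.card_mul_index
  have hk2 : 2 ≤ Nat.card χ.ker := hzq2 ▸ card_le_of_le hker
  rw [hrange] at hprod
  have hcard : Nat.card Q = 2 ^ 13 := by
    have := Nat.mul_le_mul_right (2 ^ 12) hk2
    omega
  have hkcard : Nat.card χ.ker = 2 := by omega
  have hkeq : zpowers zq = χ.ker := eq_of_le_of_card_ge hker (by rw [hkcard, hzq2])
  have : Fact (Nat.Prime 2) := ⟨Nat.prime_two⟩
  refine ⟨hcard, LargeExtra.extraspecial_of (IsPGroup.of_card hcard) hzq (Subtype.ext hz2)
    (mem_center_iff.2 fun q => Subtype.ext (hqz q q.2)) ?_ ?_ ?_ ?_⟩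
  · intro a ha
    have : a ∈ χ.ker := by
      refine funext fun j => Subtype.ext ?_
      have := congrArg Subtype.val (mem_center_iff.1 ha ⟨b j, hbQ j⟩)
      show (a : G) * b j * (a : G)⁻¹ * (b j)⁻¹ = 1
      rw [show (a : G) * b j = b j * a from this.symm, mul_inv_cancel_right, mul_inv_cancel]
    rw [← hkeq] at this
    exact z_cases (Subtype.ext hz2) this
  · intro a a'
    have hgen : ∀ q ∈ Q, (a : G) * q * (a : G)⁻¹ * q⁻¹ ∈ zpowers z := by
      intro q hq
      induction hq using closure_induction with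
      | mem x hx =>
        rcases hx with rfl | ⟨i, rfl⟩
        · rw [hqz a a.2, mul_inv_cancel_right, mul_inv_cancel]
          exact one_mem _
        · exact h1 a a.2 i
      | one => simp
      | mul x y hxQ _ hx hy =>
        have e : (a : G) * (x * y) * (a : G)⁻¹ * (x * y)⁻¹ =
            (a * x * (a : G)⁻¹ * x⁻¹) * (x * (a * y * (a : G)⁻¹ * y⁻¹) * x⁻¹) := by group
        rw [e, hcentral _ hy x hxQ, mul_inv_cancel_right]
        exact mul_mem hx hy
      | inv x hxQ hx =>
        have e : (a : G) * x⁻¹ * (a : G)⁻¹ * (x⁻¹)⁻¹ =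
            x⁻¹ * (a * x * (a : G)⁻¹ * x⁻¹)⁻¹ * x := by group
        rw [e, mul_assoc, ← hcentral _ (inv_mem hx) x hxQ, inv_mul_cancel_left]
        exact inv_mem hx
    have hv : ((⁅a, a'⁆ : Q) : G) = (a : G) * a' * (a : G)⁻¹ * (a' : G)⁻¹ := by
      simp [commutatorElement_def]
    rcases z_cases hz2 (hgen a' a'.2) with h | h
    exacts [Or.inl (Subtype.ext (hv.trans h)), Or.inr (Subtype.ext (hv.trans h))]
  · intro a
    have hsq : ∀ q ∈ Q, q * q ∈ zpowers z := by
      intro q hq
      induction hq using closure_induction with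
      | mem x hx =>
        rcases hx with rfl | ⟨i, rfl⟩
        exacts [mul_mem (mem_zpowers _) (mem_zpowers _), hs i]
      | one => simp
      | mul x y hxQ hyQ hx hy =>
        have hcxy : ∀ w ∈ Q, y * w * y⁻¹ * w⁻¹ ∈ zpowers z := by
          intro w hw
          induction hw using closure_induction with
          | mem u hu =>
            rcases hu with rfl | ⟨i, rfl⟩
            · rw [hqz y hyQ, mul_inv_cancel_right, mul_inv_cancel]
              exact one_mem _
            · exact h1 y hyQ i
          | one => simp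
          | mul u v huQ _ hu hv =>
            have e : y * (u * v) * y⁻¹ * (u * v)⁻¹ =
                (y * u * y⁻¹ * u⁻¹) * (u * (y * v * y⁻¹ * v⁻¹) * u⁻¹) := by group
            rw [e, hcentral _ hv u huQ, mul_inv_cancel_right]
            exact mul_mem hu hv
          | inv u huQ hu =>
            have e : y * u⁻¹ * y⁻¹ * (u⁻¹)⁻¹ = u⁻¹ * (y * u * y⁻¹ * u⁻¹)⁻¹ * u := by group
            rw [e, mul_assoc, ← hcentral _ (inv_mem hu) u huQ, inv_mul_cancel_left]
            exact inv_mem hu
        have e : x * y * (x * y) = x * (y * x * y⁻¹ * x⁻¹) * x⁻¹ * ((x * x) * (y * y)) := by group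
        rw [e, hcentral _ (hcxy x hxQ) x hxQ, mul_inv_cancel_right]
        exact mul_mem (hcxy x hxQ) (mul_mem hx hy)
      | inv x _ hx => rw [← mul_inv_rev]; exact inv_mem hx
    rcases z_cases hz2 (hsq a a.2) with h | h
    exacts [Or.inl (Subtype.ext h), Or.inr (Subtype.ext h)]
  · refine ⟨⟨c 0, hcmem 0⟩, ⟨b 0, hbQ 0⟩, fun h => ?_⟩
    have h' : c 0 * b 0 = b 0 * c 0 := congrArg Subtype.val h
    have := hdual 0 0
    rw [if_pos rfl, h', mul_inv_cancel_right, mul_inv_cancel] at this
    exact hz this.symm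

end Cfsg.Agent.J4Cent
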