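import Cfsg.Agent.J4Cent.CheckBridge
import Cfsg.Agent.J4Cent.CheckQ
import Cfsg.Agent.J4Cent.CheckConj
import Cfsg.Agent.J4Cent.Extraspecial

/-!
# The subgroup of the centraliser
-/

set_option autoImplicit false
set_option maxRecDepth 100000
set_option maxHeartbeats 400000

open Subgroup

namespace Cfsg.Agent.J4Cent

open Cfsg.Agent.J4Rep

/-- The presented group. -/
abbrev J : Type := Cfsg.Spor.J4

theorem rho_injective (hs : IsSimpleGroup J) : Function.Injective rho := by
  rcases rho.normal_ker.eq_bot_or_eq_top with h | h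
  · exact (MonoidHom.ker_eq_bot_iff rho).1 h
  · exfalso
    refine genPerm_x_ne_one ?_
    have : (PresentedGroup.of Cfsg.Spor.J4.Gen.x : J) ∈ rho.ker := h ▸ Subgroup.mem_top _
    rw [MonoidHom.mem_ker, rho_of] at this
    exact this

/-- The element of a word. -/
noncomputable def ev (u : Word) : J := alph.ev u

/-- The thirty elements. -/
noncomputable def E (k : Nat) : J := ev [L k]

/-- The involution. -/
noncomputable def z : J := E 0

/-- The element of order three. -/
noncomputable def d : J := E 13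

theorem ev_nil : ev [] = 1 := rfl

theorem ev_cons_true (k : Nat) (u : Word) : ev (L k :: u) = E k * ev u := by
  exact alph.ev_append [L k] u

theorem ev_append (u v : Word) : ev (u ++ v) = ev u * ev v := alph.ev_append u v

theorem ev_Li (k : Nat) : ev [Li k] = (E k)⁻¹ := by
  exact alph.ev_inv [L k]

theorem ev_pair (a b : Nat) : ev [L a, L b] = E a * E b := by
  rw [ev_cons_true]
  rfl

theorem ev_conj (l k : Nat) : ev [L l, L k, Li l] = E l * E k * (E l)⁻¹ := by
  rw [ev_cons_true, ev_cons_true, ev_Li, mul_assoc]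

theorem ev_dW (e : Nat) : ev (dW e) = d ^ e := by
  induction e with
  | zero => rw [pow_zero]; rfl
  | succ e ih => rw [pow_succ', ← ih, d, ← ev_cons_true]; rfl

theorem ev_zW (e : Bool) : ev (zW e) = if e then z else 1 := by
  cases e <;> rfl

variable (hinj : Function.Injective rho)

include hinj

theorem ev_eq {u v : Word} (h : eqW u v = true) : ev u = ev v :=
  alph.eq_of_eqB alph_valid hinj h

theorem z_sq : z * z = 1 := by
  rw [z, ← ev_pair]
  exact ev_eq hinj z_sq_ok

theorem cent (l : Fin 16) : E l * z = z * E l := by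
  rw [z, ← ev_pair, ← ev_pair]
  exact ev_eq hinj (cent_ok l)

theorem d_cube : d ^ 3 = 1 := by
  rw [← ev_dW]
  exact ev_eq hinj d_cube_ok

omit hinj in
theorem moved : ([0, 13] : List Nat).all (fun k =>
    !(Nat.beq (app (alph.M (L k)) (2 ^ movedAt.getD (k / 13) 0)) (2 ^ movedAt.getD (k / 13) 0)) &&
      Nat.blt (movedAt.getD (k / 13) 0) 112) = true := by
  decide +kernel

omit hinj in
theorem ne_one_of_moved {k : Nat} (hk : k ∈ ([0, 13] : List Nat)) : E k ≠ 1 := by
  intro he
  have h := List.all_eq_true.1 moved k hk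
  simp only [Bool.and_eq_true, Bool.not_eq_true'] at h
  obtain ⟨h1, h2⟩ := h
  have hv : 2 ^ movedAt.getD (k / 13) 0 < 2 ^ 112 :=
    Nat.pow_lt_pow_right (by norm_num) (Nat.le_of_ble_eq_true h2)
  have := (alph.rho_ev_apply alph_valid [L k] ⟨_, hv⟩).trans (run_one alph.M (L k) _)
  rw [show alph.ev [L k] = 1 from he, map_one] at this
  rw [← this] at h1
  exact absurd h1 (by simp)

omit hinj in
theorem z_ne_one : z ≠ 1 := ne_one_of_moved (by simp)

omit hinj in
theorem d_ne_one : d ≠ 1 := ne_one_of_moved (by simp)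

/-- The generators of the extraspecial group. -/
noncomputable def qb (i : Fin 12) : J := E (1 + i)

omit hinj in
/-- The extraspecial group. -/
noncomputable def Q : Subgroup J := closure (insert z (Set.range qb))

omit hinj in
theorem E_mem_Q {k : Nat} (hk : k < 13) : E k ∈ Q := by
  rcases Nat.eq_zero_or_pos k with rfl | h
  · exact subset_closure (Set.mem_insert _ _)
  · refine subset_closure (Set.mem_insert_of_mem _ ⟨⟨k - 1, by omega⟩, ?_⟩)
    simp only [qb]
    congr 1
    omega

omit hinj in
theorem ev_map_mem (H : Subgroup J) (b : Nat) : ∀ l : List Nat, (∀ i ∈ l, E (b + i) ∈ H) →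
    ev (l.map fun i => L (b + i)) ∈ H
  | [], _ => H.one_mem
  | i :: l, h => by
    rw [List.map_cons, ev_cons_true]
    exact H.mul_mem (h i List.mem_cons_self)
      (ev_map_mem H b l fun j hj => h j (List.mem_cons_of_mem _ hj))

omit hinj in
theorem selW_mem (H : Subgroup J) (b n c : Nat) (h : ∀ i < n, E (b + i) ∈ H) :
    ev (selW b n c) ∈ H :=
  ev_map_mem H b _ fun i hi => h i (List.mem_range.1 (List.mem_filter.1 hi).1)

omit hinj in
theorem qword_mem (c : Nat) : ev (selW 0 13 c) ∈ Q :=
  selW_mem Q 0 13 c fun i hi => by rw [Nat.zero_add]; exact E_mem_Q hi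

theorem Q_spec [Finite J] :
    Nat.card Q = 2 ^ 13 ∧ Cfsg.IsExtraspecial 2 Q := by
  have hzw : ∀ e : Bool, ev (zW e) ∈ zpowers z := fun e => by
    rw [ev_zW]
    split
    exacts [mem_zpowers _, one_mem _]
  refine extraspecial_gens z_ne_one (z_sq hinj) qb
    (fun k => ev (selW 1 12 (duals.getD k 0))) (fun i => cent hinj ⟨1 + i, by omega⟩) ?_ ?_ ?_ ?_
  · intro i
    have := ev_eq hinj (sq_ok i)
    rw [ev_pair] at this
    rw [qb, this]
    exact hzw _
  · intro i j
    have := ev_eq hinj (com_ok i j)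
    rw [ev_pair, ev_append, ev_pair] at this
    rw [qb, qb, this, mul_assoc, mul_assoc, mul_assoc]
    simp only [mul_inv_cancel_left, mul_inv_cancel, mul_one]
    exact hzw _
  · intro k
    exact selW_mem _ 1 12 _ fun i hi => subset_closure (Set.mem_insert_of_mem _ ⟨⟨i, hi⟩, rfl⟩)
  · intro k j
    have := ev_eq hinj (dual_ok k j)
    rw [ev_append, ev_append, ev_append] at this
    have hj : ev [L (1 + (j : Nat))] = qb j := rfl
    rw [hj, ev_zW] at this
    rw [this]
    have hb : Nat.beq k j = decide (k = j) := by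
      rw [Bool.eq_iff_iff, Nat.beq_eq, decide_eq_true_iff, Fin.ext_iff]
    rw [hb]
    rcases eq_or_ne k j with h | h
    · subst h
      simp [mul_assoc]
    · simp [h, mul_assoc]

theorem conj_mem (l : Fin 16) {q : J} (hq : q ∈ Q) : E l * q * (E l)⁻¹ ∈ Q := by
  have hgen : ∀ k < 13, E l * E k * (E l)⁻¹ ∈ Q := fun k hk => by
    rw [← ev_conj, ev_eq hinj (conj_ok l ⟨k, hk⟩)]
    exact qword_mem _
  induction hq using closure_induction with
  | mem x hx =>
    rcases hx with rfl | ⟨i, rfl⟩
    exacts [hgen 0 (by norm_num), hgen (1 + i) (by omega)]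
  | one => simp
  | mul a b _ _ ha hb => simpa [mul_assoc] using Q.mul_mem ha hb
  | inv a _ ha => simpa [mul_assoc] using Q.inv_mem ha

/-- The generators of the centraliser. -/
def gensC : Set J := {g | ∃ l : Fin 16, g = E l}

omit hinj in
/-- The subgroup they generate. -/
noncomputable def C0 : Subgroup J := closure gensC

theorem C0_le_centralizer : C0 ≤ centralizer ({z} : Set J) := by
  rw [C0, closure_le]
  rintro _ ⟨l, rfl⟩
  exact mem_centralizer_singleton_iff.2 (cent hinj l)

theorem C0_normalizes [Finite J] : C0 ≤ normalizer (Q : Set J) := by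
  rw [C0, closure_le]
  rintro _ ⟨l, rfl⟩
  have hle : Q.map (MulAut.conj (E l)).toMonoidHom ≤ Q := by
    rintro _ ⟨q, hq, rfl⟩
    exact conj_mem hinj l hq
  have he : Q.map (MulAut.conj (E l)).toMonoidHom = Q :=
    eq_of_le_of_card_ge hle (by rw [card_map_of_injective (MulEquiv.injective _)])
  rw [SetLike.mem_coe, mem_normalizer_iff]
  intro q
  refine ⟨conj_mem hinj l, fun h => ?_⟩
  rw [← he] at h
  obtain ⟨q', hq', hqq⟩ := h
  rwa [← (MulEquiv.injective (MulAut.conj (E l))) hqq]

theorem dconj (l : Fin 16) (e : Fin 2) :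
    ∃ q ∈ Q, E l * d ^ ((e : Nat) + 1) * (E l)⁻¹ =
      d ^ ((deTab.getD l []).getD e (0, 0)).1 * q := by
  refine ⟨ev (selW 0 13 ((deTab.getD l []).getD e (0, 0)).2), qword_mem _, ?_⟩
  have := ev_eq hinj (dconj_ok l e)
  rw [ev_append, ev_append, ev_Li, ev_dW, ev_append, ev_dW] at this
  exact this

end Cfsg.Agent.J4Cent
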