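import Cfsg.Agent.J4Cent.Abelian

/-!
# Certificates for representatives of double cosets
-/

set_option autoImplicit false
set_option maxRecDepth 100000
set_option maxHeartbeats 400000

open Subgroup

namespace Cfsg.Agent.J4Cent

open Cfsg.Agent.J4Rep Cfsg.Agent.J4Lower

/-- The matrices of the basis of the elementary abelian subgroup. -/
def amats : List (List Nat) := (List.range 11).map fun i => alph.C ⟨(16 + i) % 30, Nat.mod_lt _ (by norm_num [alph])⟩

theorem rho_selW_apply : ∀ (n b c : Nat) (v : Vec 112),
    (rho (ev (selW b n c)) v).1 =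
      FTree.prodApp ((List.range n).map fun i => alph.M (L (b + i))) v.1 c
  | 0, b, c, v => by
    simp [selW, ev_nil, FTree.prodApp]
  | n + 1, b, c, v => by
    rw [ev_selW_succ, List.range_succ_eq_map, List.map_cons, List.map_map, FTree.prodApp, map_mul,
      Equiv.Perm.mul_apply]
    have ih := rho_selW_apply n (b + 1) (c >>> 1) v
    have hl : ((fun i => alph.M (L (b + i))) ∘ Nat.succ) = fun i => alph.M (L (b + 1 + i)) :=
      funext fun i => congrArg (fun k => alph.M (L k)) (by omega)
    rw [hl, ← ih]
    cases c.testBit 0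
    · simp
    · exact (alph.rho_ev_apply alph_valid [L b] _).trans (run_one alph.M (L b) _)

theorem rho_av_apply (c : Nat) (v : Vec 112) : (rho (av c) v).1 = FTree.prodApp amats v.1 c := by
  rw [av, rho_selW_apply]
  rfl

/-- The data common to the certificates. -/
structure Base where
  /-- The vector. -/
  u0 : Nat
  /-- The images of the vector. -/
  T0 : FTree
  /-- The coordinates of the images at the conjugates of the involution. -/
  F : KTree

namespace Base

/-- The images are right and the search tree inverts them on the conjugates. -/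
noncomputable def ok (B : Base) : Bool :=
  Nat.blt B.u0 (2 ^ 112) && FTree.okT B.u0 amats B.T0 &&
    FTree.allT (fun c v => !kMask.testBit c || Nat.beq (B.F.find v) c) 11 B.T0 1 0

theorem find_av {B : Base} (h : B.ok = true) {c : Nat} (hc : c < 2048) (hk : kMask.testBit c = true)
    (hu : B.u0 < 2 ^ 112) : B.F.find (rho (av c) ⟨B.u0, hu⟩).1 = c := by
  simp only [ok, Bool.and_eq_true] at h
  have h2 := FTree.allT_spec _ 11 B.T0 1 0 h.2 c (by norm_num; exact hc)
  rw [Nat.zero_add, Nat.one_mul, hk] at h2
  rw [rho_av_apply, ← FTree.okT_spec _ _ _ h.1.2]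
  exact Nat.eq_of_beq_eq_true (by simpa using h2)

theorem u0_lt {B : Base} (h : B.ok = true) : B.u0 < 2 ^ 112 := by
  simp only [ok, Bool.and_eq_true] at h
  exact Nat.le_of_ble_eq_true h.1.1

theorem kMask_count :
    ((Finset.range 2048).filter fun c => kMask.testBit c = true).card = 1771 := by decide +kernel

theorem card_KS {B : Base} (h : B.ok = true) : Nat.card KS = 1771 := by
  classical
  have hu := u0_lt h
  rw [← kMask_count, ← Nat.card_eq_finsetCard]
  refine (Nat.card_eq_of_bijective (fun c => (⟨av c.1, c.1, ?_, ?_, rfl⟩ : KS)) ⟨?_, ?_⟩).symm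
  · exact Finset.mem_range.1 (Finset.mem_filter.1 c.2).1
  · exact (Finset.mem_filter.1 c.2).2
  · rintro ⟨a, ha⟩ ⟨b, hb⟩ hab
    have e : av a = av b := congrArg Subtype.val hab
    rw [Finset.mem_filter, Finset.mem_range] at ha hb
    apply Subtype.ext
    show a = b
    rw [← find_av h ha.1 ha.2 hu, e, find_av h hb.1 hb.2 hu]
  · rintro ⟨_, c, hc, hm, rfl⟩
    exact ⟨⟨c, Finset.mem_filter.2 ⟨Finset.mem_range.2 hc, hm⟩⟩, rfl⟩

end Base

/-- The data for one representative. -/
structure NodeCert where
  /-- The word. -/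
  w : List (Cfsg.Spor.J4.Gen × Bool)
  /-- Its matrix. -/
  C : List Nat
  /-- Its inverse matrix. -/
  D : List Nat
  /-- The images of the moved vector. -/
  T : FTree
  /-- The possible conjugates of the involution sent to conjugates of it. -/
  hits : List Nat

namespace NodeCert

/-- The certificate is right. -/
noncomputable def ok (N : NodeCert) (B : Base) : Bool :=
  bridgeB N.w N.C N.D && FTree.okT (app N.C B.u0) amats N.T &&
    (Nat.ble 1771 N.hits.length ||
      FTree.allT (fun c v => !kMask.testBit c || Nat.beq (B.F.find (app N.D v)) 2048 ||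
        N.hits.any fun x => Nat.beq c x) 11 N.T 1 0)

theorem card_le {N : NodeCert} {B : Base} (hB : B.ok = true) (h : N.ok B = true) [Finite J] :
    Nat.card {a : J // a ∈ KS ∧ (el N.w)⁻¹ * a * el N.w ∈ KS} ≤ N.hits.length := by
  classical
  have hu := Base.u0_lt hB
  simp only [ok, Bool.and_eq_true, Bool.or_eq_true] at h
  obtain ⟨⟨hbr, hT⟩, hlong | hall⟩ := h
  · calc Nat.card {a : J // a ∈ KS ∧ (el N.w)⁻¹ * a * el N.w ∈ KS}
        ≤ Nat.card KS := Nat.card_le_card_of_injective (fun a => (⟨a.1, a.2.1⟩ : KS))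
          fun a b hab => by simpa [Subtype.ext_iff] using hab
      _ = 1771 := Base.card_KS hB
      _ ≤ N.hits.length := Nat.le_of_ble_eq_true hlong
  have key : ∀ a ∈ KS, (el N.w)⁻¹ * a * el N.w ∈ KS → ∃ c ∈ N.hits, av c = a := by
    rintro a ⟨c, hc, hm, rfl⟩ ⟨e, he, hem, hce⟩
    refine ⟨c, ?_, rfl⟩
    have h2 := FTree.allT_spec _ 11 N.T 1 0 hall c (by norm_num; exact hc)
    rw [Nat.zero_add, Nat.one_mul, hm] at h2
    have hval : app N.D (N.T.get c) = (rho (av e) ⟨B.u0, hu⟩).1 := by
      rw [← hce, map_mul, map_mul, map_inv, Equiv.Perm.mul_apply, Equiv.Perm.mul_apply,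
        (bridge hbr _).2, rho_av_apply, (bridge hbr _).1, FTree.okT_spec _ _ _ hT]
    rw [hval, Base.find_av hB he hem hu] at h2
    rw [show Nat.beq e 2048 = false from Bool.eq_false_iff.2 fun hb => by
      rw [Nat.eq_of_beq_eq_true hb] at he; exact lt_irrefl _ he] at h2
    simpa using h2
  rw [← List.length_map (f := av) (as := N.hits)]
  refine le_trans ?_ (List.toFinset_card_le _)
  rw [← Nat.card_eq_finsetCard]
  refine Nat.card_le_card_of_injective
    (fun a => (⟨a.1, ?_⟩ : ((N.hits.map av).toFinset : Finset J))) fun a b hab => by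
      simpa [Subtype.ext_iff] using hab
  obtain ⟨c, hc, he⟩ := key a.1 a.2.1 a.2.2
  exact List.mem_toFinset.2 (List.mem_map.2 ⟨c, hc, he⟩)

end NodeCert

end Cfsg.Agent.J4Cent
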