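import Cfsg.Agent.J4Cent.Structure
import Cfsg.Agent.J4Cent.Node
import Cfsg.Agent.J4Cent.Count
import Cfsg.Agent.J4Cent.BaseCheck

/-!
# The centraliser of the involution, from a cover by double cosets
-/

set_option autoImplicit false
set_option maxRecDepth 100000
set_option maxHeartbeats 400000

open Subgroup

namespace Cfsg.Agent.J4Cent

open Cfsg.Agent.J4Rep Cfsg.Agent.J4Lower

/-- The order of the centraliser is bounded by a weighted count over a cover by double cosets. -/
theorem card_centralizer_le_of_cover [Finite J] (hs : IsSimpleGroup J)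
    (hH : Nat.card HH ∣ 501397585920) {n : ℕ} (N : Fin n → NodeCert)
    (hN : ∀ i, (N i).ok base = true) (idx : Fin n → ℕ)
    (hcov : ∀ g : J, ∃ i, ∃ a ∈ HH, (g : J ⧸ HH) = ((a * el (N i).w : J) : J ⧸ HH))
    (hidx : ∀ i, Nat.card {c : J ⧸ HH // ∃ a ∈ HH, c = ((a * el (N i).w : J) : J ⧸ HH)} ≤ idx i)
    (hsum : ∑ i, idx i * (N i).hits.length ≤ 77 * 1771) :
    Nat.card (centralizer ({z} : Set J)) ≤ 21799895040 := by
  have hinj := rho_injective hs
  have h := card_centralizer_le HH KS z (z_mem_KS hinj) (KS_invariant hinj) (KS_transitive hinj)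
    (fun i => el (N i).w) idx (fun i => (N i).hits.length) hcov hidx
    fun i => NodeCert.card_le base_ok (hN i)
  rw [Base.card_KS base_ok] at h
  have h1 := h.trans (Nat.mul_le_mul hsum (Nat.le_of_dvd (by norm_num) hH))
  have e : (77 : ℕ) * 1771 * 501397585920 = 21799895040 * (1771 * 1771) := by norm_num
  rw [e] at h1
  exact Nat.le_of_mul_le_mul_right h1 (by norm_num)

/-- The structure of the centraliser, from a cover by double cosets. -/
theorem centralizer_structure [Finite J] (hs : IsSimpleGroup J)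
    (hH : Nat.card HH ∣ 501397585920) {n : ℕ} (N : Fin n → NodeCert)
    (hN : ∀ i, (N i).ok base = true) (idx : Fin n → ℕ)
    (hcov : ∀ g : J, ∃ i, ∃ a ∈ HH, (g : J ⧸ HH) = ((a * el (N i).w : J) : J ⧸ HH))
    (hidx : ∀ i, Nat.card {c : J ⧸ HH // ∃ a ∈ HH, c = ((a * el (N i).w : J) : J ⧸ HH)} ≤ idx i)
    (hsum : ∑ i, idx i * (N i).hits.length ≤ 77 * 1771) :
    orderOf z = 2 ∧ ∃ (Q N M : Subgroup (centralizer ({z} : Set J))), Q.Normal ∧ N.Normal ∧
      Q ≤ N ∧ N ≤ M ∧ Nat.card Q = 2 ^ 13 ∧ Cfsg.IsExtraspecial 2 Q ∧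
      Nat.card N = 3 * 2 ^ 13 ∧ M.index = 2 ∧
      ∃ (_ : (N.subgroupOf M).Normal), Cfsg.IsM22 (M ⧸ N.subgroupOf M) :=
  structure_of_bound (rho_injective hs)
    (card_centralizer_le_of_cover hs hH N hN idx hcov hidx hsum)

end Cfsg.Agent.J4Cent
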