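import Cfsg.Agent.J4Lower.Main
import Cfsg.Agent.DCoset.Steps

/-!
# Representatives of nodes as words in the generators of the presented J4
-/

set_option autoImplicit false

namespace Cfsg.Agent.J4Cent

open Cfsg.Agent.DCoset Cfsg.Agent.J4Lower Cfsg.Spor

theorem el_nil : el [] = 1 := map_one _

theorem el_append (u v : List (J4.Gen × Bool)) : el (u ++ v) = el u * el v := by
  rw [el, el, el, ← map_mul, FreeGroup.mul_mk]

theorem el_invW (w : List (J4.Gen × Bool)) : el (invW w) = (el w)⁻¹ := by
  rw [el, el, ← map_inv, FreeGroup.inv_mk]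
  rfl

/-- A packed word, spelled by `wl`. -/
def spellVal (wl : Nat → List (J4.Gen × Bool)) : Nat → Nat → List (J4.Gen × Bool)
  | 0, _ => []
  | n + 1, w => wl (w % 256) ++ spellVal wl n (w / 256)

theorem valW_eq_el {lv : Nat → Cfsg.Spor.J4} {wl : Nat → List (J4.Gen × Bool)}
    (h : ∀ g, lv g = el (wl g)) : ∀ n w, valW lv n w = el (spellVal wl n w)
  | 0, _ => el_nil.symm
  | n + 1, w => by rw [valW, spellVal, el_append, ← h, valW_eq_el h n]

/-- The representative of a node, spelled. -/
def spellAux (D : Steps) (wl wt : Nat → List (J4.Gen × Bool)) : Nat → Nat → List (J4.Gen × Bool)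
  | 0, _ => []
  | f + 1, j => if j = 0 then [] else
      spellAux D wl wt f (D.nodeSrc j) ++
        spellVal wl (D.nodeW j % 65536) (D.nodeW j / 65536) ++ wt (D.nodeT j)

/-- The spelling of the representative of a node. -/
def spell (D : Steps) (wl wt : Nat → List (J4.Gen × Bool)) (j : Nat) : List (J4.Gen × Bool) :=
  spellAux D wl wt (j + 1) j

theorem rep_eq_el (D : Steps) {M : DCoset.Model Cfsg.Spor.J4} {T : Nat → Cfsg.Spor.J4}
    {wl wt : Nat → List (J4.Gen × Bool)} (hl : ∀ g, M.lv g = el (wl g))
    (ht : ∀ t, T t = el (wt t)) (j : Nat) : Steps.rep D M T j = el (spell D wl wt j) := by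
  rw [Steps.rep, spell]
  generalize j + 1 = f
  induction f generalizing j with
  | zero => exact el_nil.symm
  | succ f ih =>
    rw [Steps.repAux, spellAux]
    split
    · exact el_nil.symm
    · rw [el_append, el_append, ← ih, ← ht, val, valW_eq_el hl]

end Cfsg.Agent.J4Cent
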