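import Cfsg.Agent.J4Cent.FromCover
import Cfsg.Agent.J4Cent.Spell
import Cfsg.Agent.DCoset.WalkOrbits
import Cfsg.Agent.J4DC.Bound

/-!
# The centraliser of the involution, from a walked certificate of the double cosets
-/

set_option autoImplicit false
set_option maxRecDepth 100000
set_option maxHeartbeats 400000

open Subgroup

namespace Cfsg.Agent.J4Cent

open Cfsg.Agent.J4Lower Cfsg.Agent.DCoset

/-- The words of the four letters of the affine group. -/
def wl4 : Nat → List (Cfsg.Spor.J4.Gen × Bool)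
  | 0 => [(.x, true)]
  | 1 => [(.y, true)]
  | 2 => [(.y, false)]
  | _ => alph.w ⟨29, by norm_num [alph]⟩

/-- The words of the letters with the generators of `U`. -/
def wl (g : Nat) : List (Cfsg.Spor.J4.Gen × Bool) :=
  if g < 4 then wl4 g else (J4DC.uWord (g - 4)).flatMap wl4

/-- The words of the extra letters. -/
def wt : Nat → List (Cfsg.Spor.J4.Gen × Bool)
  | 0 => []
  | _ => [(.t, true)]

/-- The conjugating word in the third generator. -/
def wordW0 : List (Cfsg.Spor.J4.Gen × Bool) :=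
  [(.y, true), (.x, true), (.y, true), (.x, true), (.y, true), (.x, true), (.y, true), (.x, true),
    (.y, false), (.x, true)]

/-- The third generator, spelled with inverses. -/
def uWordPlain : List (Cfsg.Spor.J4.Gen × Bool) :=
  (List.replicate 3 ([(Cfsg.Spor.J4.Gen.y, true)] ++ invW wordW0 ++ [(Cfsg.Spor.J4.Gen.t, true)] ++
    wordW0)).flatten

theorem u_same : J4Rep.idB J4Rep.mat 112
    (alph.w ⟨29, by norm_num [alph]⟩ ++ invW uWordPlain) = true := by
  decide +kernel

theorem el_single (g : Cfsg.Spor.J4.Gen) : el [(g, true)] = PresentedGroup.of g := rfl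

theorem el_flatMap {β : Type*} (f : β → List (Cfsg.Spor.J4.Gen × Bool)) :
    ∀ l : List β, el (l.flatMap f) = (l.map fun b => el (f b)).prod
  | [] => el_nil
  | b :: l => by rw [List.flatMap_cons, el_append, el_flatMap f l, List.map_cons, List.prod_cons]

theorem nucU_eq (hinj : Function.Injective J4Rep.rho) :
    J4DC.nucU = el (alph.w ⟨29, by norm_num [alph]⟩) := by
  have h1 : el (alph.w ⟨29, by norm_num [alph]⟩) = el uWordPlain := by
    refine mul_inv_eq_one.1 (hinj ?_)
    rw [← el_invW, ← el_append, map_one, rho_el]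
    exact J4Rep.prod_eq_one J4Rep.mat _ J4Rep.letter_apply u_same
  have hw : el wordW0 = PresentedGroup.mk _
      ((Cfsg.Spor.J4.y * Cfsg.Spor.J4.x) ^ 4 * Cfsg.Spor.J4.y⁻¹ * Cfsg.Spor.J4.x) := by
    rw [show wordW0 = [(Cfsg.Spor.J4.Gen.y, true)] ++ [(.x, true)] ++ [(.y, true)] ++ [(.x, true)] ++
        [(.y, true)] ++ [(.x, true)] ++ [(.y, true)] ++ [(.x, true)] ++
        invW [(.y, true)] ++ [(.x, true)] from rfl]
    simp only [el_append, el_invW, el_single, map_mul, map_inv, pow_succ, pow_zero,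
      one_mul, mul_assoc]
    rfl
  rw [h1, ← J4DC.gen_eq, map_pow, map_mul, map_mul, map_mul, map_inv, ← hw, uWordPlain]
  simp only [List.replicate, List.flatten_cons, List.flatten_nil, List.append_nil, el_append,
    el_invW, el_single, pow_three, mul_assoc]
  rfl

theorem iota_qAff (hinj : Function.Injective J4Rep.rho) (g : Nat) :
    J4DC.iota (J4Aff.qAff g) = el (wl4 g) := by
  have hy : J4DC.iota (SemidirectProduct.inr (PresentedGroup.of 1)) =
      el [(Cfsg.Spor.J4.Gen.y, true)] :=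
    (J4Aff.iotaOf_inr _ _ _ _).trans (J4DC.hiota 1)
  match g with
  | 0 => exact (J4Aff.iotaOf_inr _ _ _ _).trans (J4DC.hiota 0)
  | 1 => exact hy
  | 2 =>
    show J4DC.iota (SemidirectProduct.inr (PresentedGroup.of 1)⁻¹) =
      el (invW [(Cfsg.Spor.J4.Gen.y, true)])
    rw [map_inv, map_inv, hy, el_invW]
  | _ + 3 =>
    show J4DC.iota (SemidirectProduct.inl J4Aff.uV) = el (alph.w ⟨29, _⟩)
    rw [J4DC.iota, J4Aff.iotaOf_inl, J4DC.phi_uV]
    exact nucU_eq hinj

theorem iota_letter (hinj : Function.Injective J4Rep.rho) (g : Nat) :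
    J4DC.iota (J4DC.q9 g) = el (wl g) := by
  unfold J4DC.q9 wl
  split
  · exact iota_qAff hinj g
  · rw [map_list_prod, List.map_map, el_flatMap]
    exact congrArg List.prod (List.map_congr_left fun x _ => iota_qAff hinj x)

theorem range_HH (hinj : Function.Injective J4Rep.rho) : J4DC.iota.range = HH := by
  have hE : ∀ k : Fin 30, E k = el (alph.w k) := fun k => by
    have hk : (L (k : Nat)) = (k, true) := by
      simp only [L]
      exact Prod.ext (Fin.ext (Nat.mod_eq_of_lt k.2)) rfl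
    rw [E, ev, hk]
    exact alph.ev_one k
  rw [MonoidHom.range_eq_map, ← J4Aff.closure_letters, MonoidHom.map_closure, HH]
  apply congrArg Subgroup.closure
  rw [Set.image_insert_eq, Set.image_insert_eq, Set.image_singleton]
  have e0 : J4DC.iota (SemidirectProduct.inr (PresentedGroup.of 0)) = E 27 :=
    (iota_qAff hinj 0).trans (hE ⟨27, by norm_num⟩).symm
  have e1 : J4DC.iota (SemidirectProduct.inr (PresentedGroup.of 1)) = E 28 :=
    (iota_qAff hinj 1).trans (hE ⟨28, by norm_num⟩).symm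
  have e3 : J4DC.iota (SemidirectProduct.inl J4Aff.uV) = E 29 :=
    (iota_qAff hinj 3).trans (hE ⟨29, by norm_num⟩).symm
  rw [e0, e1, e3]

/-- The statement on the centraliser, from a certificate of the double cosets. -/
theorem of_cert (D : Steps) (C : WalkCover)
    (hsteps : ∀ s, s < D.len → Steps.check D J4W.rules J4W.tab s = true)
    (hsrc : ∀ j, 1 ≤ j → j < D.nNode → D.nodeSrc j < j)
    (hG : C.nG = 4) (hV : C.Valid D J4W.rules J4W.tab 501397585920)
    (hsum : ((List.range C.nLive).map C.idx).sum = 173067389)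
    (N : Fin C.nLive → NodeCert) (hN : ∀ i, (N i).ok base = true)
    (hspell : ∀ i : Fin C.nLive, (N i).w = invW (spell D wl wt (C.live i)))
    (hcount : ∑ i : Fin C.nLive, C.idx i * (N i).hits.length ≤ 77 * 1771) :
    ∃ (G : Type) (_ : Group G) (_ : Finite G), Cfsg.IsJ4 G ∧ ∃ z : G, orderOf z = 2 ∧
      ∃ (Q N M : Subgroup (centralizer ({z} : Set G))), Q.Normal ∧ N.Normal ∧
      Q ≤ N ∧ N ≤ M ∧ Nat.card Q = 2 ^ 13 ∧ Cfsg.IsExtraspecial 2 Q ∧
      Nat.card N = 3 * 2 ^ 13 ∧ M.index = 2 ∧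
      ∃ (_ : (N.subgroupOf M).Normal), Cfsg.IsM22 (M ⧸ N.subgroupOf M) := by
  have hidx := J4DC.index_eq D C hsteps hsrc hG hV hsum
  have hJ4 := J4DC.isJ4 hidx
  have : Finite J := Nat.finite_of_card_ne_zero (by rw [hJ4.2]; norm_num)
  have := J4Aff.qaff_finite
  have hinj := rho_injective hJ4.1
  have hlv : ∀ g, (J4DC.model9.toModel J4DC.iota).lv g = el (wl g) := iota_letter hinj
  have hT : ∀ t, J4DC.tEl t = el (wt t)
    | 0 => el_nil.symm
    | _ + 1 => rfl
  have hF : ∀ s, s < D.len →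
      D.Holds J4W.rules (J4DC.model9.toModel J4DC.iota) J4DC.iota.range J4DC.tEl s :=
    Steps.holds J4DC.sound
      (fun g _ => (⟨J4DC.q9 g, rfl⟩ : J4DC.iota (J4DC.q9 g) ∈ J4DC.iota.range)) hsrc
      (show 0 < 2 by norm_num) hsteps
  obtain ⟨pt, label, -, hsurj, -, hstab, -, hpt⟩ :=
    WalkCover.orbits (P := J4DC.model9) J4DC.iota J4DC.tEl J4Aff.qaff_card.le
      (hG ▸ J4DC.model9_gens) J4DC.range_gen J4DC.sound hV hF (hsum.trans hidx.symm).le
  have hw : ∀ i : Fin C.nLive, pt i = QuotientGroup.mk (el (N i).w) := fun i => by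
    rw [hpt i, hspell i, el_invW, rep_eq_el D hlv hT]
  have hrange := range_HH hinj
  refine ⟨J, inferInstance, inferInstance, hJ4, z, ?_⟩
  have hsurj' : ∀ c, ∃ i q, c = J4DC.iota q • pt i := fun c => ⟨_, hsurj c⟩
  clear hsurj label hpt
  revert pt
  rw [hrange]
  intro pt hstab hw hsurj
  refine centralizer_structure hJ4.1 ?_ N hN (fun i => C.idx i) (fun g => ?_) (fun i => ?_) hcount
  · rw [← hrange, ← J4Aff.qaff_card]
    exact card_range_dvd J4DC.iota
  · obtain ⟨i, q, hq⟩ := hsurj (QuotientGroup.mk g)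
    refine ⟨i, J4DC.iota q, hrange ▸ ⟨q, rfl⟩, ?_⟩
    rw [hq, hw]
    rfl
  · let : MulAction J4Aff.QAff (J ⧸ HH) := MulAction.compHom _ J4DC.iota
    have hs := hstab i
    have h1 := (MulAction.stabilizer J4Aff.QAff (pt i)).card_mul_index
    have e : (MulAction.stabilizer J (pt i)).comap J4DC.iota =
        MulAction.stabilizer J4Aff.QAff (pt i) := by
      ext q
      rfl
    rw [e] at hs
    have hi : (MulAction.stabilizer J4Aff.QAff (pt i)).index = C.idx i :=
      Nat.eq_of_mul_eq_mul_left Nat.card_pos (h1.trans hs.symm)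
    refine le_of_eq ?_
    rw [← hi, MulAction.index_stabilizer, ← Nat.card_coe_set_eq]
    refine Nat.card_congr (Equiv.subtypeEquivRight fun c => ?_)
    constructor
    · rintro ⟨a, ha, rfl⟩
      obtain ⟨q, rfl⟩ : a ∈ J4DC.iota.range := hrange.symm ▸ ha
      exact ⟨q, by rw [hw]; rfl⟩
    · rintro ⟨q, rfl⟩
      exact ⟨J4DC.iota q, hrange ▸ ⟨q, rfl⟩, by rw [hw]; rfl⟩

end Cfsg.Agent.J4Cent
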