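import Cfsg.Agent.J4Lower.Main

/-!
# Words with known matrices in the representation of the presented J4

An element given by a word whose matrix and inverse matrix are listed can then be used as a single
letter.
-/

set_option autoImplicit false
set_option maxRecDepth 100000

namespace Cfsg.Agent.J4Cent

open Cfsg.Agent.J4Rep Cfsg.Agent.J4Lower Cfsg.Spor

theorem run_append {α : Type*} (M : α → List Nat) (u w : List α) (v : Nat) :
    run M (u ++ w) v = run M u (run M w v) := by
  induction u with
  | nil => rfl
  | cons a u ih => rw [List.cons_append, run_cons, run_cons, ih]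

theorem run_map {α β : Type*} (M : β → List Nat) (f : α → β) (w : List α) (v : Nat) :
    run M (w.map f) v = run (fun a => M (f a)) w v := by
  induction w with
  | nil => rfl
  | cons a w ih => rw [List.map_cons, run_cons, run_cons, ih]

theorem run_one {α : Type*} (M : α → List Nat) (a : α) (v : Nat) : run M [a] v = app (M a) v := by
  rw [run_cons]
  rfl

/-- The matrices of a word are `C` and `D`. -/
noncomputable def bridgeB (w : List (J4.Gen × Bool)) (C D : List Nat) : Bool :=
  idB (Sum.elim mat fun b : Bool => bif b then C else D) 112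
      (Sum.inr false :: w.map Sum.inl) &&
    idB (fun b : Bool => bif b then C else D) 112 [true, false]

theorem bridge {w : List (J4.Gen × Bool)} {C D : List Nat} (h : bridgeB w C D = true) (v : Vec 112) :
    (rho (el w) v).1 = app C v.1 ∧ ((rho (el w))⁻¹ v).1 = app D v.1 := by
  rw [bridgeB, Bool.and_eq_true] at h
  have key : ∀ u : Vec 112, (rho (el w) u).1 = run mat w u.1 := fun u => by
    rw [rho_el]
    exact prod_apply mat _ letter_apply w u
  have h1 : ∀ u : Vec 112, app D (rho (el w) u).1 = u.1 := fun u => by
    have := run_eq_self h.1 u.2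
    rw [run_cons, run_map] at this
    rw [key]
    exact this
  have h2 : ∀ u, u < 2 ^ 112 → app C (app D u) = u := fun u hu => by
    have := run_eq_self h.2 hu
    rw [run_cons, run_one] at this
    exact this
  refine ⟨?_, ?_⟩
  · have := h2 _ (rho (el w) v).2
    rw [h1] at this
    exact this.symm
  · have := h1 ((rho (el w))⁻¹ v)
    simp only [Equiv.Perm.coe_inv, Equiv.apply_symm_apply] at this
    exact this.symm

/-- Elements given by words with listed matrices. -/
structure Alph where
  /-- The number of elements. -/
  n : Nat
  /-- The words. -/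
  w : Fin n → List (J4.Gen × Bool)
  /-- The matrices. -/
  C : Fin n → List Nat
  /-- The inverse matrices. -/
  D : Fin n → List Nat

namespace Alph

variable (A : Alph)

/-- The element of a letter. -/
noncomputable def E (k : Fin A.n) : Cfsg.Spor.J4 := el (A.w k)

/-- The matrix of a signed letter. -/
def M (a : Fin A.n × Bool) : List Nat := bif a.2 then A.C a.1 else A.D a.1

/-- The listed matrices are right. -/
def Valid : Prop := ∀ k, bridgeB (A.w k) (A.C k) (A.D k) = true

/-- The element of a word in the letters. -/
noncomputable def ev (u : List (Fin A.n × Bool)) : Cfsg.Spor.J4 :=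
  (u.map fun a => bif a.2 then A.E a.1 else (A.E a.1)⁻¹).prod

/-- The word of the inverse. -/
def inv (u : List (Fin A.n × Bool)) : List (Fin A.n × Bool) := (u.map fun a => (a.1, !a.2)).reverse

/-- Two words have the same matrices. -/
noncomputable def eqB (u v : List (Fin A.n × Bool)) : Bool := idB A.M 112 (u ++ A.inv v)

theorem ev_nil : A.ev [] = 1 := rfl

theorem ev_cons (a : Fin A.n × Bool) (u : List (Fin A.n × Bool)) :
    A.ev (a :: u) = (bif a.2 then A.E a.1 else (A.E a.1)⁻¹) * A.ev u := by
  rw [ev, List.map_cons, List.prod_cons]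
  rfl

theorem ev_append (u v : List (Fin A.n × Bool)) : A.ev (u ++ v) = A.ev u * A.ev v := by
  rw [ev, List.map_append, List.prod_append]
  rfl

theorem ev_one (k : Fin A.n) : A.ev [(k, true)] = A.E k := by
  rw [ev_cons, ev_nil, mul_one]
  rfl

theorem ev_inv (u : List (Fin A.n × Bool)) : A.ev (A.inv u) = (A.ev u)⁻¹ := by
  induction u with
  | nil => simp [inv, ev]
  | cons a u ih =>
    have : A.inv (a :: u) = A.inv u ++ [(a.1, !a.2)] := by simp [inv]
    rw [this, ev_append, ih, ev_cons, ev_nil, mul_one, ev_cons, mul_inv_rev]
    obtain ⟨k, b⟩ := a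
    cases b <;> simp

theorem sigma_apply (hA : A.Valid) (a : Fin A.n × Bool) (v : Vec 112) :
    (rho (bif a.2 then A.E a.1 else (A.E a.1)⁻¹) v).1 = app (A.M a) v.1 := by
  obtain ⟨k, b⟩ := a
  cases b
  · simp only [M, cond_false, map_inv]
    exact (bridge (hA k) v).2
  · simp only [M, cond_true]
    exact (bridge (hA k) v).1

theorem rho_ev_apply (hA : A.Valid) (u : List (Fin A.n × Bool)) (v : Vec 112) :
    (rho (A.ev u) v).1 = run A.M u v.1 := by
  rw [ev, map_list_prod, List.map_map]
  exact prod_apply A.M _ (A.sigma_apply hA) u v

theorem eq_of_eqB (hA : A.Valid) (hinj : Function.Injective rho) {u v : List (Fin A.n × Bool)}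
    (h : A.eqB u v = true) : A.ev u = A.ev v := by
  refine mul_inv_eq_one.1 (hinj ?_)
  rw [← ev_inv, ← ev_append, map_one]
  refine Equiv.ext fun x => Subtype.ext ?_
  rw [A.rho_ev_apply hA]
  exact run_eq_self h x.2

end Alph

end Cfsg.Agent.J4Cent
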