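import Cfsg.Agent.J4Cent.FromWalk
import Cfsg.Agent.J4Cent.NodeCert0
import Cfsg.Agent.J4Cent.NodeCert1
import Cfsg.Agent.J4Cent.NodeCert2
import Cfsg.Agent.J4Cent.NodeCert3
import Cfsg.Agent.J4Cent.NodeCert4
import Cfsg.Agent.J4Cent.NodeCert5
import Cfsg.Agent.J4Cent.NodeCert6
import Cfsg.Agent.DCoset.J4W.CoverDefs

/-!
# The certificates of the seven representatives
-/

set_option autoImplicit false
set_option maxRecDepth 100000

namespace Cfsg.Agent.J4Cent

open Cfsg.Agent.J4Lower Cfsg.Agent.DCoset

/-- The certificates of the seven representatives. -/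
def certs : Fin 7 → NodeCert :=
  ![Node0.cert, Node1.cert, Node2.cert, Node3.cert, Node4.cert, Node5.cert, Node6.cert]

theorem certs_ok : ∀ i, (certs i).ok base = true := by
  intro i
  fin_cases i
  exacts [Node0.cert_ok, Node1.cert_ok, Node2.cert_ok, Node3.cert_ok, Node4.cert_ok,
    Node5.cert_ok, Node6.cert_ok]

theorem certs_spell : ∀ i : Fin 7,
    (certs i).w = invW (spell J4W.steps wl wt (J4W.cover.live i)) := by
  decide +kernel

theorem certs_count :
    ∑ i : Fin 7, J4W.cover.idx i * (certs i).hits.length ≤ 77 * 1771 := by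
  decide +kernel

end Cfsg.Agent.J4Cent
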