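import Cfsg.Agent.J4Cent.Elems
import Cfsg.Agent.Compute.Mathieu
import Cfsg.Agent.Compute.Config

/-!
# Twenty-four objects permuted by the centraliser
-/

set_option autoImplicit false
set_option maxRecDepth 100000
set_option maxHeartbeats 400000

open Subgroup

namespace Cfsg.Agent.J4Cent

open Cfsg Cfsg.Agent.J4Rep Cfsg.Agent.Compute

/-- A vector or a group element. -/
abbrev Pts : Type := Vec 112 ⊕ J

/-- The action on vectors and, by conjugation, on elements. -/
noncomputable def act (g : J) : Pts → Pts := Sum.map (rho g) fun a => g * a * g⁻¹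

theorem act_one (x : Pts) : act 1 x = x := by
  cases x <;> simp [act]

theorem act_mul (g h : J) (x : Pts) : act (g * h) x = act g (act h x) := by
  cases x <;> simp [act, mul_assoc]

/-- The vectors at a point. -/
def vset (i : Nat) : Set Pts := Sum.inl '' {v : Vec 112 | v.1 ∈ blk.getD i []}

/-- The class of a power of the element of order three. -/
noncomputable def cls (e : Nat) : Set Pts := Sum.inr '' {a : J | ∃ q ∈ Q, a = d ^ e * q}

/-- The object at a point. -/
noncomputable def obj (i : Nat) : Set Pts :=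
  if i = 23 then cls 1 else if i = 0 then cls 2 else vset i

/-- The object at a point of the code. -/
noncomputable def objP (p : GolayPt) : Set Pts := obj (ptIdx p)

theorem blk_small : ∀ i : Fin 24, (blk.getD i []).all (fun v => Nat.blt v (2 ^ 112)) = true := by
  decide +kernel

theorem blk_distinct : ∀ i : Fin 24, ∀ j : Fin 24, i = j ∨
    (i : Nat) = 0 ∨ (i : Nat) = 23 ∨
      (blk.getD i []).any (fun v => !((blk.getD j []).any fun u => Nat.beq v u)) = true := by
  decide +kernel

theorem d_not_mem [Finite J] (hinj : Function.Injective rho) : d ∉ Q := by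
  intro h
  have h3 : orderOf d = 3 := by
    have : Fact (Nat.Prime 3) := ⟨by norm_num⟩
    exact orderOf_eq_prime (d_cube hinj) d_ne_one
  have := orderOf_dvd_natCard (⟨d, h⟩ : Q)
  rw [← Subgroup.orderOf_coe, h3, (Q_spec hinj).1] at this
  norm_num at this

theorem cls_ne [Finite J] (hinj : Function.Injective rho) : cls 1 ≠ cls 2 := by
  intro h
  have h1 : (Sum.inr d : Pts) ∈ cls 1 := ⟨d, ⟨1, Q.one_mem, by simp⟩, rfl⟩
  rw [h] at h1
  obtain ⟨a, ⟨q, hq, hqe⟩, hda⟩ := h1
  cases hda
  refine d_not_mem hinj ?_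
  have : d⁻¹ = q := by
    rw [eq_comm, ← mul_right_inj (d ^ 2), ← hqe, sq, mul_inv_cancel_right]
  exact inv_mem_iff.1 (this ▸ hq)

theorem cls_ne_vset (e : Nat) (i : Nat) : cls e ≠ vset i := by
  intro h
  have h1 : (Sum.inr (d ^ e) : Pts) ∈ cls e := ⟨d ^ e, ⟨1, Q.one_mem, by simp⟩, rfl⟩
  rw [h] at h1
  obtain ⟨v, -, hv⟩ := h1
  exact Sum.inl_ne_inr hv

theorem objP_injective [Finite J] (hinj : Function.Injective rho) : Function.Injective objP := by
  intro p p' h
  apply ptIdx_injective
  have hp := ptIdx_lt p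
  have hp' := ptIdx_lt p'
  unfold objP obj at h
  split_ifs at h with a b c a' b' c'
  all_goals try omega
  all_goals try exact absurd h (cls_ne hinj)
  all_goals try exact absurd h.symm (cls_ne hinj)
  all_goals try exact absurd h (cls_ne_vset _ _)
  all_goals try exact absurd h.symm (cls_ne_vset _ _)
  rcases blk_distinct ⟨ptIdx p, hp⟩ ⟨ptIdx p', hp'⟩ with e | e | e | e
  · exact congrArg Fin.val e
  · exact absurd e (by simpa using ‹¬ptIdx p = 0›)
  · exact absurd e (by simpa using ‹¬ptIdx p = 23›)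
  · obtain ⟨v, hv, hv'⟩ := List.any_eq_true.1 e
    have hlt : v < 2 ^ 112 :=
      Nat.le_of_ble_eq_true (List.all_eq_true.1 (blk_small ⟨_, hp⟩) v hv)
    have h1 : (Sum.inl ⟨v, hlt⟩ : Pts) ∈ vset (ptIdx p) := ⟨_, hv, rfl⟩
    rw [h] at h1
    obtain ⟨u, hu, hue⟩ := h1
    have hv2 : v ∈ blk.getD (ptIdx p') [] := by
      rw [← show u.1 = v from congrArg Subtype.val (Sum.inl_injective hue)]
      exact hu
    rw [Bool.not_eq_true', List.any_eq_false] at hv'
    exact absurd (Nat.beq_eq.symm ▸ rfl : Nat.beq v v = true) (hv' v hv2)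

theorem perm_ok : (List.range 16).all (fun l => rep24.okb (permOf l)) = true := by decide +kernel

theorem perm_special : ∀ l : Fin 16,
    Nat.beq (if rep24.act (permOf l) 23 = 23 then 1 else if rep24.act (permOf l) 23 = 0 then 2 else 0)
        ((deTab.getD l []).getD 0 (0, 0)).1 = true ∧
      Nat.beq (if rep24.act (permOf l) 0 = 23 then 1 else if rep24.act (permOf l) 0 = 0 then 2 else 0)
        ((deTab.getD l []).getD 1 (0, 0)).1 = true ∧
      (∀ i : Fin 24, (i : Nat) = 0 ∨ (i : Nat) = 23 ∨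
        rep24.act (permOf l) i ≠ 0 ∧ rep24.act (permOf l) i ≠ 23) ∧
      (rep24.act (permOf l) 23 = 23 ∨ rep24.act (permOf l) 23 = 0) ∧
      (rep24.act (permOf l) 0 = 23 ∨ rep24.act (permOf l) 0 = 0) := by
  decide +kernel

theorem image_cls [Finite J] (hinj : Function.Injective rho) (l : Fin 16) (e : Fin 2) :
    act (E l) '' cls ((e : Nat) + 1) = cls ((deTab.getD l []).getD e (0, 0)).1 := by
  obtain ⟨q0, hq0, hd⟩ := dconj hinj l e
  ext x
  constructor
  · rintro ⟨_, ⟨a, ⟨q, hq, rfl⟩, rfl⟩, rfl⟩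
    refine ⟨_, ⟨q0 * (E l * q * (E l)⁻¹), Q.mul_mem hq0 (conj_mem hinj l hq), rfl⟩, ?_⟩
    simp only [act, Sum.map_inr]
    congr 1
    rw [← mul_assoc (d ^ _), ← hd]
    group
  · rintro ⟨a, ⟨q, hq, rfl⟩, rfl⟩
    have hn := C0_normalizes hinj (subset_closure ⟨l, rfl⟩ : E l ∈ C0)
    rw [mem_normalizer_iff] at hn
    refine ⟨Sum.inr (d ^ ((e : Nat) + 1) * ((E l)⁻¹ * (q0⁻¹ * q) * E l)),
      ⟨_, ⟨_, (hn _).2 ?_, rfl⟩, rfl⟩, ?_⟩
    · simpa [mul_assoc] using Q.mul_mem (Q.inv_mem hq0) hq
    · simp only [act, Sum.map_inr]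
      congr 1
      have e1 : d ^ ((deTab.getD l []).getD e (0, 0)).1 =
          E l * d ^ ((e : Nat) + 1) * (E l)⁻¹ * q0⁻¹ := by rw [hd, mul_inv_cancel_right]
      rw [e1]
      group

theorem gen_act [Finite J] (hinj : Function.Injective rho) (l : Fin 16) (p : GolayPt) :
    act (E l) '' objP p = objP (rep24.den (permOf l) p) := by
  have hok : rep24.Ok (permOf l) :=
    rep24.okb_sound _ (List.all_eq_true.1 perm_ok l (List.mem_range.2 l.2))
  obtain ⟨h23, h0, hmid, s23, s0⟩ := perm_special l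
  rw [Nat.beq_eq] at h23 h0
  have hlt := ptIdx_lt p
  simp only [objP, obj, ptIdx_den hok]
  by_cases a : ptIdx p = 23
  · have hl := image_cls hinj l 0
    simp only [Fin.coe_ofNat_eq_mod, Nat.zero_mod, Nat.zero_add] at hl h23
    rw [if_pos a, hl, a, ← h23]
    split_ifs with b c
    all_goals first | rfl | skip
    rcases s23 with h | h
    · exact absurd h (by assumption)
    · exact absurd h (by assumption)
  by_cases b : ptIdx p = 0
  · have hl := image_cls hinj l 1
    simp only [Fin.coe_ofNat_eq_mod, Nat.one_mod, Nat.reduceAdd] at hl h0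
    rw [if_neg a, if_pos b, hl, b, ← h0]
    split_ifs with c c'
    all_goals first | rfl | skip
    rcases s0 with h | h
    · exact absurd h (by assumption)
    · exact absurd h (by assumption)
  rcases hmid ⟨ptIdx p, hlt⟩ with h | h | ⟨n0, n23⟩
  · exact absurd h b
  · exact absurd h a
  rw [if_neg a, if_neg b, if_neg n23, if_neg n0]
  have hchk := blk_ok l ⟨ptIdx p, hlt⟩
  simp only [blkB, Bool.and_eq_true, List.all_eq_true, List.any_eq_true, Nat.beq_eq] at hchk
  have hE : ∀ v : Vec 112, (rho (E l) v).1 = app (alph.M (L l)) v.1 := fun v =>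
    (alph.rho_ev_apply alph_valid [L l] v).trans (run_one alph.M (L l) v.1)
  ext x
  constructor
  · rintro ⟨_, ⟨v, hv, rfl⟩, rfl⟩
    obtain ⟨u, hu, huv⟩ := hchk.1 v.1 hv
    refine ⟨rho (E l) v, ?_, rfl⟩
    rw [Set.mem_setOf_eq]
    rw [hE, huv]
    exact hu
  · rintro ⟨u, hu, rfl⟩
    obtain ⟨v, hv, hvu⟩ := hchk.2 u.1 hu
    have hvlt : v < 2 ^ 112 :=
      Nat.le_of_ble_eq_true (List.all_eq_true.1 (blk_small ⟨_, hlt⟩) v hv)
    exact ⟨_, ⟨⟨v, hvlt⟩, hv, rfl⟩, congrArg Sum.inl (Subtype.ext ((hE _).trans hvu))⟩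

/-- The elements permuting the objects. -/
def permuting : Subgroup J where
  carrier := {g | ∃ σ : Equiv.Perm GolayPt, ∀ p, act g '' objP p = objP (σ p)}
  one_mem' := ⟨1, fun p => by simp [funext act_one]⟩
  mul_mem' := by
    rintro g h ⟨σ, hσ⟩ ⟨τ, hτ⟩
    refine ⟨σ * τ, fun p => ?_⟩
    rw [show act (g * h) = act g ∘ act h from funext (act_mul g h), Set.image_comp, hτ, hσ]
    rfl
  inv_mem' := by
    rintro g ⟨σ, hσ⟩
    refine ⟨σ⁻¹, fun p => ?_⟩
    conv_lhs => rw [← show σ (σ⁻¹ p) = p by simp, ← hσ, ← Set.image_comp,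
      ← show act (g⁻¹ * g) = act g⁻¹ ∘ act g from funext (act_mul _ g), inv_mul_cancel,
      show act (1 : J) = id from funext act_one, Set.image_id]

theorem C0_le_permuting [Finite J] (hinj : Function.Injective rho) : C0 ≤ permuting := by
  rw [C0, closure_le]
  rintro _ ⟨l, rfl⟩
  exact ⟨rep24.den (permOf l), gen_act hinj l⟩

/-- The permutation of the points. -/
noncomputable def psi [Finite J] (hinj : Function.Injective rho) : C0 →* Equiv.Perm GolayPt where
  toFun g := Classical.choose (C0_le_permuting hinj g.2)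
  map_one' := by
    refine Equiv.ext fun p => objP_injective hinj ?_
    rw [← Classical.choose_spec (C0_le_permuting hinj (one_mem C0))]
    simp [funext act_one]
  map_mul' g h := by
    refine Equiv.ext fun p => objP_injective hinj ?_
    rw [← Classical.choose_spec (C0_le_permuting hinj (g * h).2),
      Equiv.Perm.mul_apply, ← Classical.choose_spec (C0_le_permuting hinj g.2),
      ← Classical.choose_spec (C0_le_permuting hinj h.2), ← Set.image_comp]
    exact congrArg (· '' objP p) (funext (act_mul g h))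

theorem psi_apply [Finite J] (hinj : Function.Injective rho) (g : C0) (p : GolayPt) :
    act g '' objP p = objP (psi hinj g p) :=
  Classical.choose_spec (C0_le_permuting hinj g.2) p

theorem psi_E [Finite J] (hinj : Function.Injective rho) (l : Fin 16)
    (h : E l ∈ C0) : psi hinj ⟨E l, h⟩ = rep24.den (permOf l) :=
  Equiv.ext fun p => objP_injective hinj ((psi_apply hinj _ p).symm.trans (gen_act hinj l p))

end Cfsg.Agent.J4Cent
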