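import Cfsg.Agent.J4Cent.Points
import Cfsg.Agent.J4Cent.CheckSlp
import Cfsg.Agent.LargeExtra.SingularSubgroup
import Cfsg.Prelude.Def_Sporadic

/-!
# The centraliser from a bound on its order
-/

set_option autoImplicit false
set_option maxRecDepth 100000
set_option maxHeartbeats 400000

open Subgroup

namespace Cfsg.Agent.J4Cent

open Cfsg Cfsg.Agent.J4Rep Cfsg.Agent.Compute

theorem E_mem_C0 {k : Nat} (hk : k < 16) : E k ∈ C0 := subset_closure ⟨⟨k, hk⟩, rfl⟩

theorem Q_le_C0 : Q ≤ C0 := by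
  rw [Q, closure_le]
  rintro x (rfl | ⟨i, rfl⟩)
  exacts [E_mem_C0 (k := 0) (by norm_num), E_mem_C0 (k := 1 + i) (by omega)]

/-- The extraspecial group extended by the element of order three. -/
noncomputable def NN : Subgroup J := Q ⊔ zpowers d

theorem NN_le_C0 : NN ≤ C0 :=
  sup_le Q_le_C0 (zpowers_le.2 (E_mem_C0 (k := 13) (by norm_num)))

theorem card_NN [Finite J] (hinj : Function.Injective rho) :
    Nat.card NN = 3 * 2 ^ 13 := by
  have hd : zpowers d ≤ normalizer (Q : Set J) :=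
    (zpowers_le.2 (E_mem_C0 (k := 13) (by norm_num))).trans (C0_normalizes hinj)
  have h3 : orderOf d = 3 := by
    have : Fact (Nat.Prime 3) := ⟨by norm_num⟩
    exact orderOf_eq_prime (d_cube hinj) d_ne_one
  have hdisj : Q ⊓ zpowers d = ⊥ := by
    refine (disjoint_iff.1 (disjoint_of_coprime_natCard ?_))
    rw [(Q_spec hinj).1, Nat.card_zpowers, h3]
    decide
  have hb : Function.Bijective (fun p : Q × zpowers d =>
      (⟨(p.1 : J) * p.2, mul_mem_sup p.1.2 p.2.2⟩ : NN)) := by
    constructor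
    · rintro ⟨a, b⟩ ⟨a', b'⟩ h
      have h' : (a : J) * b = a' * b' := congrArg Subtype.val h
      have he : (a' : J)⁻¹ * a = b' * (b : J)⁻¹ := by
        rw [eq_mul_inv_iff_mul_eq, mul_assoc, h', inv_mul_cancel_left]
      have hm : (a' : J)⁻¹ * a ∈ Q ⊓ zpowers d :=
        ⟨Q.mul_mem (Q.inv_mem a'.2) a.2, he ▸ (zpowers d).mul_mem b'.2 ((zpowers d).inv_mem b.2)⟩
      rw [hdisj, mem_bot] at hm
      have ha : a = a' := Subtype.ext (inv_mul_eq_one.1 hm).symm
      subst ha
      rw [Prod.mk.injEq]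
      exact ⟨rfl, Subtype.ext (mul_left_cancel h')⟩
    · rintro ⟨x, hx⟩
      have hx' : x ∈ ((Q ⊔ zpowers d : Subgroup J) : Set J) := hx
      rw [coe_mul_of_right_le_normalizer_left Q (zpowers d) hd] at hx'
      obtain ⟨a, ha, b, hb', rfl⟩ := Set.mem_mul.1 hx'
      exact ⟨(⟨a, ha⟩, ⟨b, hb'⟩), rfl⟩
  rw [← Nat.card_eq_of_bijective _ hb, Nat.card_prod, (Q_spec hinj).1, Nat.card_zpowers, h3]
  norm_num

variable [Finite J] (hinj : Function.Injective rho)

include hinj

theorem NN_le_ker : NN.subgroupOf C0 ≤ (psi hinj).ker := by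
  have hk : ∀ k, k < 14 → ∀ h : E k ∈ C0, psi hinj ⟨E k, h⟩ = 1 := fun k hk h => by
    have e := psi_E hinj ⟨k, by omega⟩ h
    have h2 := List.all_eq_true.1 outer_ok.2 k (List.mem_range.2 hk)
    rw [Nat.beq_eq] at h2
    exact e.trans (by rw [show permOf ((⟨k, _⟩ : Fin 16) : Nat) = rep24.one from h2, rep24.den_one])
  have : NN ≤ (psi hinj).ker.map C0.subtype := by
    rw [NN, sup_le_iff, Q, closure_le, zpowers_le]
    refine ⟨?_, ⟨⟨d, E_mem_C0 (k := 13) (by norm_num)⟩, hk 13 (by norm_num) _, rfl⟩⟩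
    rintro x (rfl | ⟨i, rfl⟩)
    · exact ⟨⟨z, E_mem_C0 (k := 0) (by norm_num)⟩, hk 0 (by norm_num) _, rfl⟩
    · exact ⟨⟨qb i, E_mem_C0 (k := 1 + i) (by omega)⟩, hk (1 + i) (by omega) _, rfl⟩
  intro g hg
  obtain ⟨g', hg', he⟩ := this (mem_subgroupOf.1 hg)
  rwa [← C0.subtype_injective he]

theorem inner_le_range : Spor.M22 ≤ (psi hinj).range := by
  rw [m22_eq]
  refine le_of_eq_of_le (rep24.span_of_genB (Rep.checkChain_tail (Rep.checkChain_tail m24a_check))
    inner_gen).symm ?_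
  rw [Rep.span, closure_le]
  rintro _ ⟨c, hc, rfl⟩
  obtain ⟨w, hw, hcw⟩ := List.any_eq_true.1 (List.all_eq_true.1 inner_ok c hc)
  rw [Nat.beq_eq] at hcw
  subst hcw
  have hlt := List.all_eq_true.1 innerW_lt w hw
  suffices H : ∀ w : List Nat, (∀ l ∈ w, l < 16) →
      rep24.Ok (codeOf w) ∧ rep24.den (codeOf w) ∈ (psi hinj).range by
    exact (H w fun l hl => Nat.le_of_ble_eq_true (List.all_eq_true.1 hlt l hl)).2
  intro w
  induction w with
  | nil => exact fun _ => ⟨rep24.ok_one, by rw [show codeOf [] = rep24.one from rfl, rep24.den_one]; exact one_mem _⟩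
  | cons l w ih =>
    intro hl
    have h16 := hl l List.mem_cons_self
    obtain ⟨h1, h2⟩ := ih fun x hx => hl x (List.mem_cons_of_mem _ hx)
    have hok : rep24.Ok (permOf l) :=
      rep24.okb_sound _ (List.all_eq_true.1 perm_ok l (List.mem_range.2 h16))
    show rep24.Ok (rep24.mul (permOf l) (codeOf w)) ∧ rep24.den (rep24.mul (permOf l) (codeOf w)) ∈ _
    refine ⟨rep24.ok_mul _ _ hok h1, ?_⟩
    rw [rep24.den_mul _ _ hok h1]
    exact mul_mem ⟨⟨E l, E_mem_C0 h16⟩, psi_E hinj ⟨l, h16⟩ _⟩ h2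

theorem card_range_ge : 887040 ≤ Nat.card (psi hinj).range := by
  have hle := inner_le_range hinj
  have hne : Spor.M22 ≠ (psi hinj).range := by
    intro h
    have hm : rep24.den (permOf 15) ∈ Spor.M22 :=
      h ▸ ⟨⟨E 15, E_mem_C0 (by norm_num)⟩, psi_E hinj ⟨15, by norm_num⟩ _⟩
    have hfix : rep24.den (permOf 15) (none : GolayPt) = none := hm.1.2
    have := congrArg ptIdx hfix
    rw [← rep24_pt23, ptIdx_den (rep24.okb_sound _ (List.all_eq_true.1 perm_ok 15 (by decide))),
      ptIdx_rep24 (by norm_num), Nat.eq_of_beq_eq_true outer_ok.1] at this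
    exact absurd this (by norm_num)
  obtain ⟨k, hk⟩ := card_dvd_of_le hle
  rw [card_m22] at hk
  rcases k with _ | _ | k
  · exact absurd hk (by rw [mul_zero]; exact Nat.card_pos.ne')
  · exact absurd (eq_of_le_of_card_ge hle (by rw [card_m22, hk])) hne
  · rw [hk]
    omega

/-- The centraliser has the required structure as soon as its order is small enough. -/
theorem structure_of_bound
    (hB : Nat.card (centralizer ({z} : Set J)) ≤ 21799895040) :
    orderOf z = 2 ∧ ∃ (Q N M : Subgroup (centralizer ({z} : Set J))), Q.Normal ∧ N.Normal ∧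
      Q ≤ N ∧ N ≤ M ∧ Nat.card Q = 2 ^ 13 ∧ Cfsg.IsExtraspecial 2 Q ∧
      Nat.card N = 3 * 2 ^ 13 ∧ M.index = 2 ∧
      ∃ (_ : (N.subgroupOf M).Normal), Cfsg.IsM22 (M ⧸ N.subgroupOf M) := by
  refine ⟨orderOf_eq_prime (by rw [sq, z_sq hinj]) z_ne_one, ?_⟩
  have hNcard : Nat.card (NN.subgroupOf C0) = 24576 := by
    rw [Nat.card_congr (subgroupOfEquivOfLe NN_le_C0).toEquiv, card_NN hinj]
    norm_num
  have hprod : Nat.card (psi hinj).ker * Nat.card (psi hinj).range = Nat.card C0 := by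
    rw [← index_ker]
    exact (psi hinj).ker.card_mul_index
  have hk : 24576 ≤ Nat.card (psi hinj).ker := hNcard ▸ card_le_of_le (NN_le_ker hinj)
  have hr := card_range_ge hinj
  have hle := card_le_of_le (C0_le_centralizer hinj)
  have hlow : 21799895040 ≤ Nat.card C0 := by
    rw [← hprod]
    exact le_trans (by norm_num) (Nat.mul_le_mul hk hr)
  have hC : C0 = centralizer ({z} : Set J) :=
    eq_of_le_of_card_ge (C0_le_centralizer hinj) (hB.trans hlow)
  have hkcard : Nat.card (psi hinj).ker = 24576 := by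
    by_contra hne
    have h1 : 24577 ≤ Nat.card (psi hinj).ker := by omega
    have h2 := Nat.mul_le_mul h1 hr
    omega
  have hrcard : Nat.card (psi hinj).range = 887040 := by
    rw [hkcard] at hprod
    omega
  rw [← hC]
  have hNker : NN.subgroupOf C0 = (psi hinj).ker :=
    eq_of_le_of_card_ge (NN_le_ker hinj) (by rw [hkcard, hNcard])
  let M : Subgroup C0 := Spor.M22.comap (psi hinj)
  refine ⟨Q.subgroupOf C0, NN.subgroupOf C0, M, ?_, hNker ▸ (psi hinj).normal_ker,
    fun g hg => ?_, ?_, ?_, ?_, hNcard.trans (by norm_num), ?_, ?_⟩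
  · exact normal_subgroupOf_iff_le_normalizer Q_le_C0 |>.2 (C0_normalizes hinj)
  · exact mem_subgroupOf.2 (mem_sup_left (mem_subgroupOf.1 hg))
  · rw [hNker]
    exact comap_mono bot_le
  · rw [Nat.card_congr (subgroupOfEquivOfLe Q_le_C0).toEquiv, (Q_spec hinj).1]
  · exact LargeExtra.extraspecial_congr (subgroupOfEquivOfLe Q_le_C0).symm (Q_spec hinj).2
  · rw [index_comap]
    have := (Spor.M22.subgroupOf (psi hinj).range).card_mul_index
    rw [Nat.card_congr (subgroupOfEquivOfLe (inner_le_range hinj)).toEquiv, card_m22, hrcard] at this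
    show (Spor.M22.subgroupOf (psi hinj).range).index = 2
    omega
  · let φ : M →* Spor.M22 :=
      { toFun := fun g => ⟨psi hinj g.1, g.2⟩
        map_one' := Subtype.ext (map_one _)
        map_mul' := fun a b => Subtype.ext (map_mul (psi hinj) _ _) }
    have hsurj : Function.Surjective φ := by
      rintro ⟨σ, hσ⟩
      obtain ⟨g, rfl⟩ := inner_le_range hinj hσ
      exact ⟨⟨g, hσ⟩, rfl⟩
    have hker : φ.ker = (NN.subgroupOf C0).subgroupOf M := by
      ext g
      rw [mem_subgroupOf, hNker, MonoidHom.mem_ker, MonoidHom.mem_ker]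
      exact Subtype.ext_iff
    let e := QuotientGroup.quotientKerEquivOfSurjective φ hsurj
    have hn : ((NN.subgroupOf C0).subgroupOf M).Normal := hker ▸ φ.normal_ker
    let e' : M ⧸ (NN.subgroupOf C0).subgroupOf M ≃* Spor.M22 :=
      (QuotientGroup.quotientMulEquivOfEq hker.symm).trans e
    have := isSimpleGroup_m22
    exact ⟨hn, e'.isSimpleGroup, (Nat.card_congr e'.toEquiv).trans card_m22⟩

end Cfsg.Agent.J4Cent
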