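import Cfsg.Agent.J4Cent.Data
import Cfsg.Agent.J4Cent.Tables
import Cfsg.Agent.Compute.Mathieu

/-!
# The identities to be checked
-/

set_option autoImplicit false
set_option maxRecDepth 100000

namespace Cfsg.Agent.J4Cent

/-- The words in the thirty elements. -/
abbrev Word : Type := List (Fin 30 × Bool)

/-- A letter. -/
def L (k : Nat) : Fin 30 × Bool := (⟨k % 30, Nat.mod_lt _ (by norm_num)⟩, true)

/-- An inverse letter. -/
def Li (k : Nat) : Fin 30 × Bool := (⟨k % 30, Nat.mod_lt _ (by norm_num)⟩, false)

/-- The equality test. -/
noncomputable def eqW (u v : Word) : Bool := alph.eqB u v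

/-- The product of the selected letters. -/
def selW (b n c : Nat) : Word := ((List.range n).filter fun i => c.testBit i).map fun i => L (b + i)

/-- A power of the involution. -/
def zW (e : Bool) : Word := bif e then [L 0] else []

/-- A power of the element of order three. -/
def dW (e : Nat) : Word := List.replicate e (L 13)

/-- Entry of a table. -/
def tab (t : List (List Nat)) (i j : Nat) : Nat := (t.getD i []).getD j 0

/-- Squares. -/
noncomputable def sqB (i : Nat) : Bool :=
  eqW [L (1 + i), L (1 + i)] (zW ((bsq.getD i 0).testBit 0))

/-- Commutation. -/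
noncomputable def comB (i j : Nat) : Bool :=
  eqW [L (1 + i), L (1 + j)] (zW ((bcom.getD i 0).testBit j) ++ [L (1 + j), L (1 + i)])

/-- The dual generators. -/
noncomputable def dualB (k j : Nat) : Bool :=
  eqW (selW 1 12 (duals.getD k 0) ++ [L (1 + j)])
    (zW (Nat.beq k j) ++ ([L (1 + j)] ++ selW 1 12 (duals.getD k 0)))

/-- Commutation with the involution. -/
noncomputable def centB (l : Nat) : Bool := eqW [L l, L 0] [L 0, L l]

/-- Conjugates of the thirteen generators. -/
noncomputable def conjB (l k : Nat) : Bool :=
  eqW [L l, L k, Li l] (selW 0 13 (tab cjTab l k))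

/-- Conjugates of the powers of the element of order three. -/
noncomputable def dconjB (l e : Nat) : Bool :=
  eqW ([L l] ++ dW (e + 1) ++ [Li l])
    (dW ((deTab.getD l []).getD e (0, 0)).1 ++
      selW 0 13 ((deTab.getD l []).getD e (0, 0)).2)

/-- The image of a letter among the permutations of the points. -/
def permOf (l : Nat) : Nat := permTab.getD l 0

/-- The sets of vectors at the points are permuted. -/
noncomputable def blkB (l i : Nat) : Bool :=
  (blk.getD i []).all (fun v =>
      (blk.getD (Cfsg.Agent.Compute.rep24.act (permOf l) i) []).any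
        fun u => Nat.beq (Cfsg.Agent.J4Rep.app (alph.M (L l)) v) u) &&
    (blk.getD (Cfsg.Agent.Compute.rep24.act (permOf l) i) []).all fun u =>
      (blk.getD i []).any fun v => Nat.beq (Cfsg.Agent.J4Rep.app (alph.M (L l)) v) u

/-- Squares in the elementary abelian subgroup. -/
noncomputable def aSqB (i : Nat) : Bool := eqW [L (16 + i), L (16 + i)] []

/-- Commutation in the elementary abelian subgroup. -/
noncomputable def aComB (i j : Nat) : Bool := eqW [L (16 + i), L (16 + j)] [L (16 + j), L (16 + i)]

/-- Conjugation of the elementary abelian subgroup. -/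
noncomputable def aConjB (g k : Nat) : Bool :=
  eqW [L (27 + g), L (16 + k), Li (27 + g)] (selW 16 11 (tab lmapTab g k))

end Cfsg.Agent.J4Cent
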